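import Cfsg.Agent.Lib.ExtFieldMax.SympQuadratic

/-!
# The semilinear unitary group over a quadratic extension is maximal in `Sp`, dimension six, odd characteristic
-/

set_option autoImplicit false
set_option linter.unusedSectionVars false

namespace Cfsg.Agent.Lib.ExtFieldMax.SympQuadSmall

open Matrix
open Cfsg.Agent.Lib Cfsg.Agent.Lib.Forms Cfsg.Agent.Lib.SympMax Cfsg.Agent.Lib.ExtFieldMax.SympQuad

variable {F : Type*} [Field F] [Finite F] {m : ℕ}

local notation "Vs" => (Fin m ⊕ Fin m → F)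
local notation "f" => Cfsg.sympForm m F
local notation "GLs" => GL (Fin m ⊕ Fin m) F
local notation "Ms" => Matrix (Fin m ⊕ Fin m) (Fin m ⊕ Fin m) F

variable (j : Matrix (Fin m ⊕ Fin m) (Fin m ⊕ Fin m) F) (d : F)
  (hjj : ∀ x : Fin m ⊕ Fin m → F, j *ᵥ (j *ᵥ x) = d • x)
  (hjf : ∀ x y : Fin m ⊕ Fin m → F,
    Cfsg.sympForm m F (j *ᵥ x) y = -Cfsg.sympForm m F x (j *ᵥ y))
  (hd : ∀ s : F, s * s ≠ d) (h2 : (2 : F) ≠ 0) (hm : m = 3)

theorem exists_form_right {u : Vs} (hu : u ≠ 0) : ∃ c, f c u ≠ 0 := by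
  obtain ⟨c, hc⟩ := exists_form_ne hu
  exact ⟨c, fun e => hc (by rw [sympForm_comm, e, neg_zero])⟩

theorem exists_two_ne {x y : Vs} (hx : x ≠ 0) (hy : y ≠ 0) : ∃ c, f c x ≠ 0 ∧ f c y ≠ 0 := by
  obtain ⟨a, ha⟩ := exists_form_right hx
  obtain ⟨b, hb⟩ := exists_form_right hy
  by_cases ha' : f a y = 0
  · by_cases hb' : f b x = 0
    · exact ⟨a + b, by rw [form_add_left, hb', add_zero]; exact ha,
        by rw [form_add_left, ha', zero_add]; exact hb⟩
    · exact ⟨b, hb', hb⟩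
  · exact ⟨a, ha, ha'⟩

include hjj hd in
theorem hzero {u : Vs} (hu : u ≠ 0) {s t : F} (e : s • u + t • (j *ᵥ u) = 0) : s = 0 ∧ t = 0 := by
  by_contra hne
  have hN := norm_ne_zero d hd (a := s) (b := t) (by tauto)
  have e1 := congrArg (fun z => s • z - t • (j *ᵥ z)) e
  simp only [mulVec_add, mulVec_smul, hjj, mulVec_zero, smul_zero, sub_zero] at e1
  have e2 : (s * s - d * (t * t)) • u = 0 := by rw [← e1]; module
  exact hu ((smul_eq_zero.mp e2).resolve_left hN)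

include hjj hd in
theorem jne {u : Vs} (hu : u ≠ 0) : j *ᵥ u ≠ 0 := fun e =>
  one_ne_zero (hzero j d hjj hd hu (s := 0) (t := 1) (by rw [zero_smul, zero_add, one_smul, e])).2

theorem ne_zero_of_indep {u w : Vs} (hind : ∀ a b : F, w ≠ a • u + b • (j *ᵥ u)) : w ≠ 0 := fun e =>
  hind 0 0 (by rw [e, zero_smul, zero_smul, add_zero])

include hjj hd in
theorem indep_symm {u w : Vs} (hu : u ≠ 0) (hind : ∀ a b : F, w ≠ a • u + b • (j *ᵥ u)) :
    ∀ a b : F, u ≠ a • w + b • (j *ᵥ w) := fun a b e => by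
  obtain ⟨h1, -⟩ := quad_indep j d hjj hd hu hind (a := -1) (b := 0) (a' := a) (b' := b)
    (by rw [← e]; module)
  exact one_ne_zero (neg_eq_zero.mp h1)

include hjj hjf hd hm in
/-- Two lines over the extension field have a common orthogonal space of dimension one over it. -/
theorem perp_dim {v y p q : Vs} (hv : v ≠ 0) (hy : ∀ a b : F, y ≠ a • v + b • (j *ᵥ v)) (hp : p ≠ 0)
    (hq : ∀ a b : F, q ≠ a • p + b • (j *ᵥ p)) (h1 : KP j v p) (h3 : KP j y p) (h4 : KP j v q)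
    (h5 : KP j y q) : False := by
  classical
  have hli : ∀ {v y : Vs}, v ≠ 0 → (∀ a b : F, y ≠ a • v + b • (j *ᵥ v)) →
      LinearIndependent F ![v, j *ᵥ v, y, j *ᵥ y] := by
    intro v y hv hy
    rw [Fintype.linearIndependent_iff]
    intro g hg i
    have hg' : g 0 • v + g 1 • (j *ᵥ v) + (g 2 • y + g 3 • (j *ᵥ y)) = 0 := by
      rw [← hg, Fin.sum_univ_four]
      simp
      abel
    obtain ⟨a, b, c, c'⟩ := quad_indep j d hjj hd hv hy hg'
    fin_cases i <;> assumption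
  let ψ : Vs →ₗ[F] (Fin 4 → F) := LinearMap.pi fun i => sympBilin m F (![v, j *ᵥ v, y, j *ᵥ y] i)
  have hψ : Function.Surjective ψ := by
    intro A
    let b := Module.Basis.span (hli hv hy)
    obtain ⟨χ, hχ⟩ := LinearMap.exists_extend (b.constr F fun i => -A i)
    obtain ⟨u₀, hu₀⟩ := (Forms.sympBilin_goodForm (F := F) (m := m)).exists_vec χ
    refine ⟨u₀, funext fun i => ?_⟩
    have e1 := LinearMap.congr_fun hχ (b i)
    rw [Module.Basis.constr_basis] at e1
    have e2 : χ (![v, j *ᵥ v, y, j *ᵥ y] i) = -A i := by simpa [b] using e1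
    simp only [ψ, LinearMap.pi_apply, Forms.sympBilin_apply]
    rw [sympForm_comm, ← Forms.sympBilin_apply, hu₀, e2, neg_neg]
  have e1 := ψ.finrank_range_add_finrank_ker
  rw [LinearMap.range_eq_top.mpr hψ, finrank_top, Module.finrank_fintype_fun_eq_card,
    Module.finrank_fintype_fun_eq_card] at e1
  simp only [Fintype.card_fin, Fintype.card_sum] at e1
  have hle : Submodule.span F (Set.range ![p, j *ᵥ p, q, j *ᵥ q]) ≤ LinearMap.ker ψ := by
    rw [Submodule.span_le]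
    have hk : ∀ {x : Vs}, KP j v x → KP j y x → ψ x = 0 := by
      intro x hx hx'
      refine funext fun i => ?_
      simp only [ψ, LinearMap.pi_apply, Pi.zero_apply, Forms.sympBilin_apply]
      fin_cases i
      · exact hx.1
      · show f (j *ᵥ v) x = 0
        rw [hjf, hx.2, neg_zero]
      · exact hx'.1
      · show f (j *ᵥ y) x = 0
        rw [hjf, hx'.2, neg_zero]
    rintro _ ⟨i, rfl⟩
    fin_cases i
    · exact hk h1 h3
    · exact hk (KP_j j d hjj h1) (KP_j j d hjj h3)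
    · exact hk h4 h5
    · exact hk (KP_j j d hjj h4) (KP_j j d hjj h5)
  have e2 := Submodule.finrank_mono hle
  rw [finrank_span_eq_card (hli hp hq), Fintype.card_fin] at e2
  omega

include hjj hjf hd hm in
/-- Independent isotropic lines are not orthogonal. -/
theorem indep_form {u w : Vs} (hu0 : u ≠ 0) (hu : f u (j *ᵥ u) = 0) (hw : f w (j *ᵥ w) = 0)
    (hind : ∀ a b : F, w ≠ a • u + b • (j *ᵥ u)) : f u w ≠ 0 ∨ f u (j *ᵥ w) ≠ 0 := by
  by_contra h
  push Not at h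
  exact perp_dim j d hjj hjf hd hm hu0 hind hu0 hind ⟨sympForm_self u, hu⟩
    ⟨by rw [sympForm_comm, h.1, neg_zero], by rw [f_jx_sym j hjf]; exact h.2⟩ h ⟨sympForm_self w, hw⟩

include hjj hjf hd in
/-- Rescaling an isotropic vector to prescribed pairings. -/
theorem exists_scale {v p : Vs} (hp : f p (j *ᵥ p) = 0) (h : f v p ≠ 0 ∨ f v (j *ᵥ p) ≠ 0) (A B : F) :
    ∃ a b : F, f (a • p + b • (j *ᵥ p)) (j *ᵥ (a • p + b • (j *ᵥ p))) = 0 ∧
      f v (a • p + b • (j *ᵥ p)) = A ∧ f v (j *ᵥ (a • p + b • (j *ᵥ p))) = B := by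
  obtain ⟨P, hP⟩ : ∃ P, P = f v p := ⟨_, rfl⟩
  obtain ⟨Q, hQ⟩ : ∃ Q, Q = f v (j *ᵥ p) := ⟨_, rfl⟩
  have hD : d * (P * P) - Q * Q ≠ 0 := fun e => norm_ne_zero d hd (a := Q) (b := P)
    (by rw [hP, hQ]; exact h.symm) (by linear_combination -e)
  refine ⟨(A * (d * P) - B * Q) / (d * (P * P) - Q * Q), (B * P - A * Q) / (d * (P * P) - Q * Q), ?_, ?_, ?_⟩
  · simp only [mulVec_add, mulVec_smul, hjj, form_add_left, form_add_right, form_smul_left,
      form_smul_right, hjf, hp, sympForm_self]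
    ring
  · rw [form_add_right, form_smul_right, form_smul_right, ← hP, ← hQ, div_mul_eq_mul_div,
      div_mul_eq_mul_div, ← add_div, div_eq_iff hD]
    ring
  · rw [mulVec_add, mulVec_smul, mulVec_smul, hjj, form_add_right, form_smul_right, form_smul_right,
      form_smul_right, ← hP, ← hQ, div_mul_eq_mul_div, div_mul_eq_mul_div, ← add_div, div_eq_iff hD]
    ring

include h2 hm in
theorem exists_iso_zero : ∃ p, p ≠ 0 ∧ f p (j *ᵥ p) = 0 := by
  obtain ⟨p, hp0, -, hp⟩ := FormMax.OrthSL.exists_zero_ker h2 (0 : Vs →ₗ[F] (Fin 0 → F)) (norm2 j)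
    (by rw [Fintype.card_sum, Fintype.card_fin]; omega)
  rw [norm2_apply] at hp
  exact ⟨p, hp0, hp⟩

include hjj hjf hd h2 hm in
theorem exists_presc_one {v : Vs} (hv : v ≠ 0) (A B : F) :
    ∃ u, f u (j *ᵥ u) = 0 ∧ f v u = A ∧ f v (j *ᵥ u) = B := by
  obtain ⟨p, hp, hvp⟩ : ∃ p, f p (j *ᵥ p) = 0 ∧ (f v p ≠ 0 ∨ f v (j *ᵥ p) ≠ 0) := by
    obtain ⟨p, hp0, hp⟩ := exists_iso_zero j h2 hm
    by_cases h : f v p = 0 ∧ f v (j *ᵥ p) = 0
    · obtain ⟨c, hcp, hcv⟩ := exists_two_ne (jne j d hjj hd hp0) (jne j d hjj hd hv)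
      refine ⟨c + (-f c (j *ᵥ c) / (2 * f c (j *ᵥ p))) • p, ?_, Or.inr ?_⟩
      · rw [norm2_add j hjf, mulVec_smul, form_smul_right, form_smul_right, form_smul_left, hp]
        field_simp
        ring
      · rw [mulVec_add, mulVec_smul, form_add_right, form_smul_right, h.2, mul_zero, add_zero,
          f_jx_sym j hjf]
        exact hcv
    · exact ⟨p, hp, by tauto⟩
  obtain ⟨a, b, h1, h3, h4⟩ := exists_scale j d hjj hjf hd hp hvp A B
  exact ⟨_, h1, h3, h4⟩

include hjj hjf hd h2 hm in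
/-- An isotropic pair. -/
theorem exists_iso_pair : ∃ p q, f p (j *ᵥ p) = 0 ∧ f q (j *ᵥ q) = 0 ∧ f p q ≠ 0 ∧ f p (j *ᵥ q) ≠ 0 := by
  obtain ⟨p, hp0, hp⟩ := exists_iso_zero j h2 hm
  obtain ⟨q, hq, h1, h3⟩ := exists_presc_one j d hjj hjf hd h2 hm hp0 1 1
  exact ⟨p, q, hp, hq, by rw [h1]; exact one_ne_zero, by rw [h3]; exact one_ne_zero⟩

include hjj hjf hd h2 hm in
/-- Every vector is the sum of two isotropic vectors which are not orthogonal. -/
theorem exists_split {x : Vs} (hx : x ≠ 0) :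
    ∃ a b, f a (j *ᵥ a) = 0 ∧ f b (j *ᵥ b) = 0 ∧ f a b ≠ 0 ∧ x = a + b := by
  obtain ⟨a, ha, h1, h3⟩ := exists_presc_one j d hjj hjf hd h2 hm hx 1 (f x (j *ᵥ x) / 2)
  refine ⟨a, x - a, ha, ?_, ?_, by abel⟩
  · rw [mulVec_sub, form_sub_left', form_sub_right, form_sub_right, ha, f_jx_sym j hjf a x, h3]
    field_simp
    ring
  · rw [form_sub_right, sympForm_self, sub_zero, sympForm_comm, h1]
    exact neg_ne_zero.mpr one_ne_zero

include hjj hjf hd h2 hm in
/-- Two isotropic lines in the plane orthogonal to an anisotropic line. -/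
theorem exists_plane {y : Vs} (hy : f y (j *ᵥ y) ≠ 0) : ∃ p p', f p (j *ᵥ p) = 0 ∧ f p' (j *ᵥ p') = 0 ∧
    KP j y p ∧ KP j y p' ∧ f p (j *ᵥ p') ≠ 0 := by
  let φ : Vs →ₗ[F] (Fin 2 → F) :=
    LinearMap.pi ![sympBilin m F y, (sympBilin m F y).comp (Matrix.mulVecLin j)]
  obtain ⟨p, hp0, hp, hpN⟩ := FormMax.OrthSL.exists_zero_ker h2 φ (norm2 j)
    (by rw [Fintype.card_sum, Fintype.card_fin]; omega)
  rw [norm2_apply] at hpN
  have hyp : KP j y p := ⟨by simpa [φ] using congrFun hp 0, by simpa [φ] using congrFun hp 1⟩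
  obtain ⟨w, hw⟩ := exists_form_right (jne j d hjj hd hp0)
  obtain ⟨N, hN⟩ : ∃ N, N = f y (j *ᵥ y) := ⟨_, rfl⟩
  have hN0 : N ≠ 0 := hN ▸ hy
  obtain ⟨x, hx⟩ : ∃ x, x = w - (f y (j *ᵥ w) / N) • y - (f y w / N) • (j *ᵥ y) := ⟨_, rfl⟩
  have hyx : KP j y x := by
    refine ⟨?_, ?_⟩
    · rw [hx, form_sub_right, form_sub_right, form_smul_right, form_smul_right, sympForm_self, ← hN]
      field_simp
      ring
    · rw [hx, mulVec_sub, mulVec_sub, mulVec_smul, mulVec_smul, hjj, form_sub_right, form_sub_right,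
        form_smul_right, form_smul_right, form_smul_right, sympForm_self, ← hN]
      field_simp
      ring
  have hxp : f x (j *ᵥ p) ≠ 0 := by
    rw [hx, form_sub_left', form_sub_left', form_smul_left, form_smul_left, f_jj j d hjj hjf, hyp.1,
      hyp.2]
    simp only [mul_zero, neg_zero, sub_zero]
    exact hw
  refine ⟨p, x + (-f x (j *ᵥ x) / (2 * f x (j *ᵥ p))) • p, hpN, ?_, hyp,
    KP_add j hyx (KP_smul j _ hyp), ?_⟩
  · rw [norm2_add j hjf, mulVec_smul, form_smul_right, form_smul_right, form_smul_left, hpN]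
    field_simp
    ring
  · rw [mulVec_add, mulVec_smul, form_add_right, form_smul_right, hpN, mul_zero, add_zero, f_jx_sym j hjf]
    exact hxp

include hjj hjf hd h2 hm in
theorem exists_root_core {H : Subgroup (GL (Fin m ⊕ Fin m) F)} (hH : H ≤ Cfsg.spGL m F)
    (hR : ∀ v, f v (j *ᵥ v) = 0 → ∀ c, R j d v c ∈ H) {y y' : Vs} (hyy' : f y y' = 0)
    (hB : ∀ c, T y c * T y' (-c / d) ∈ H) (hy0 : y ≠ 0) (hne : ∀ a b : F, y' ≠ a • y + b • (j *ᵥ y))
    (hN' : f y' (j *ᵥ y') ≠ 0) (hor : f y (j *ᵥ y) ≠ 0 ∨ f y (j *ᵥ y') ≠ 0) :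
    ∃ r, r ≠ 0 ∧ r ∈ root H := by
  have hd0 := d_ne_zero d hd
  obtain ⟨p, hp, hyp, hy'p⟩ : ∃ p, f p (j *ᵥ p) = 0 ∧ KP j y p ∧ (f y' p ≠ 0 ∨ f y' (j *ᵥ p) ≠ 0) := by
    by_cases hA : f y (j *ᵥ y) = 0
    · exact ⟨y, hA, ⟨sympForm_self y, hA⟩,
        Or.inr (by rw [f_jx_sym j hjf]; exact hor.resolve_left (fun h => h hA))⟩
    · obtain ⟨p, p', hp, hp', hyp, hyp', hpp⟩ := exists_plane j d hjj hjf hd h2 hm hA
      by_cases h1 : f y' p = 0 ∧ f y' (j *ᵥ p) = 0
      · by_cases h3 : f y' p' = 0 ∧ f y' (j *ᵥ p') = 0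
        · refine (perp_dim j d hjj hjf hd hm hy0 hne (p := p) (q := p') (fun e => hpp ?_) (fun a b e => hpp ?_)
            hyp h1 hyp' h3).elim
          · rw [e, ← zero_smul F (0 : Vs), form_smul_left, zero_mul]
          · rw [e, mulVec_add, mulVec_smul, mulVec_smul, hjj, form_add_right, form_smul_right,
              form_smul_right, form_smul_right, hp, sympForm_self]
            ring
        · exact ⟨p', hp', hyp', by tauto⟩
      · exact ⟨p, hp, hyp, by tauto⟩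
  obtain ⟨a, b, hv, a3, a4⟩ := exists_scale j d hjj hjf hd hp hy'p 0 1
  have hyv : KP j y (a • p + b • (j *ᵥ p)) := KP_add j (KP_smul j a hyp) (KP_smul j b (KP_j j d hjj hyp))
  generalize a • p + b • (j *ᵥ p) = v at hv a3 a4 hyv
  obtain ⟨x, x', hx, -, hy'x, -, hxx⟩ := exists_plane j d hjj hjf hd h2 hm hN'
  have hv0 : v ≠ 0 := fun e => by
    rw [e, mulVec_zero, ← zero_smul F (0 : Vs), form_smul_right, zero_mul] at a4
    exact zero_ne_one a4
  have hvx : f v x ≠ 0 ∨ f v (j *ᵥ x) ≠ 0 := by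
    refine indep_form j d hjj hjf hd hm hv0 hv hx fun s t e => hxx ?_
    obtain ⟨e1, e3⟩ := hy'x
    rw [e, form_add_right, form_smul_right, form_smul_right, a3, a4, mul_zero, zero_add, mul_one] at e1
    rw [e, e1, zero_smul, add_zero, mulVec_smul, form_smul_right, a4, mul_one] at e3
    rw [e, e1, e3, zero_smul, zero_smul, add_zero, ← zero_smul F (0 : Vs), form_smul_left, zero_mul]
  obtain ⟨s, t, hu, b1, b2⟩ := exists_scale j d hjj hjf hd hx hvx 1 0
  have hy'u : KP j y' (s • x + t • (j *ᵥ x)) :=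
    KP_add j (KP_smul j s hy'x) (KP_smul j t (KP_j j d hjj hy'x))
  generalize s • x + t • (j *ᵥ x) = u at hu b1 b2 hy'u
  refine exists_root_of_data j d hjj hjf hd h2 hH hR hyy' hB hv hyv.1 hyv.2 a3 a4 hu b1 b2 hy'u.1 hy'u.2
    fun e => hN' ?_
  have e1 := congrArg (j *ᵥ ·) e
  simp only [hjj, mulVec_smul] at e1
  rw [← smul_right_injective Vs hd0 e1]
  exact hy'u.1

include hjj hjf hd h2 hm in
theorem exists_root {H : Subgroup (GL (Fin m ⊕ Fin m) F)} (hH : H ≤ Cfsg.spGL m F)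
    (hR : ∀ v, f v (j *ᵥ v) = 0 → ∀ c, R j d v c ∈ H) {g : GLs} (hg : g ∈ H) {w : Vs}
    (hw : f w (j *ᵥ w) = 0) (hw0 : w ≠ 0)
    (hne : ∀ a b : F, (g : Ms) *ᵥ (j *ᵥ w) ≠ a • ((g : Ms) *ᵥ w) + b • (j *ᵥ ((g : Ms) *ᵥ w))) :
    ∃ r, r ≠ 0 ∧ r ∈ root H := by
  obtain ⟨y, hy⟩ : ∃ y, y = (g : Ms) *ᵥ w := ⟨_, rfl⟩
  obtain ⟨y', hy'⟩ : ∃ y', y' = (g : Ms) *ᵥ (j *ᵥ w) := ⟨_, rfl⟩
  rw [← hy, ← hy'] at hne
  have hy0 : y ≠ 0 := fun e => hw0 (by
    have h1 := congrArg (((g⁻¹ : GLs) : Ms) *ᵥ ·) (hy.symm.trans e)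
    simpa [mulVec_mulVec] using h1)
  have hyy' : f y y' = 0 := by rw [hy, hy', apply_sp (hH hg)]; exact hw
  have key : ∀ a b : F, a ≠ 0 ∨ b ≠ 0 →
      f (a • y' + (b * d) • y) (j *ᵥ (a • y' + (b * d) • y)) ≠ 0 →
      f (a • y + b • y') (j *ᵥ (a • y + b • y')) ≠ 0 ∨
        f (a • y + b • y') (j *ᵥ (a • y' + (b * d) • y)) ≠ 0 →
      ∃ r, r ≠ 0 ∧ r ∈ root H := by
    intro a b hab hN hor
    obtain ⟨w', hw'⟩ : ∃ w', w' = a • w + b • (j *ᵥ w) := ⟨_, rfl⟩
    have hgw : (g : Ms) *ᵥ w' = a • y + b • y' := by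
      rw [hw', mulVec_add, mulVec_smul, mulVec_smul, ← hy, ← hy']
    have hgj : (g : Ms) *ᵥ (j *ᵥ w') = a • y' + (b * d) • y := by
      rw [hw', mulVec_add, mulVec_smul, mulVec_smul, hjj, smul_smul, mulVec_add, mulVec_smul, mulVec_smul,
        ← hy, ← hy']
    have hN0 : f w' (j *ᵥ w') = 0 := by
      rw [hw']
      simp only [mulVec_add, mulVec_smul, hjj, form_add_left, form_add_right, form_smul_left,
        form_smul_right, hjf, hw, sympForm_self]
      ring
    refine exists_root_core j d hjj hjf hd h2 hm hH hR (y := a • y + b • y') (y' := a • y' + (b * d) • y)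
      ?_ (fun c => ?_) ?_ ?_ hN hor
    · simp only [form_add_left, form_add_right, form_smul_left, form_smul_right, hyy', sympForm_self,
        show f y' y = 0 from by rw [sympForm_comm, hyy', neg_zero]]
      ring
    · have h1 := H.mul_mem (H.mul_mem hg (hR w' hN0 c)) (H.inv_mem hg)
      rwa [R, show g * (T w' c * T (j *ᵥ w') (-c / d)) * g⁻¹ =
        (g * T w' c * g⁻¹) * (g * T (j *ᵥ w') (-c / d) * g⁻¹) by group, conj_T (hH hg), conj_T (hH hg),
        hgw, hgj] at h1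
    · intro e
      obtain ⟨h1, -, h3, -⟩ := quad_indep j d hjj hd hy0 hne (a := a) (b := 0) (a' := b) (b' := 0)
        (by rw [← e]; module)
      exact hab.elim (fun h => h h1) (fun h => h h3)
    · intro s t e
      obtain ⟨e1, e2, e3, e4⟩ := quad_indep j d hjj hd hy0 hne (a := b * d - s * a) (b := -(t * a))
        (a' := a - s * b) (b' := -(t * b)) (by
          rw [← sub_eq_zero, mulVec_add, mulVec_smul, mulVec_smul] at e
          rw [← e]; module)
      have hb : b = 0 := by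
        have : (d - s * s) * b = 0 := by linear_combination e1 + s * e3
        exact (mul_eq_zero.mp this).resolve_left (sub_ne_zero.mpr fun h => hd s h.symm)
      refine hab.elim (fun h => h ?_) (fun h => h hb)
      rw [hb] at e3
      linear_combination e3
  obtain ⟨A, hA⟩ : ∃ A, A = f y (j *ᵥ y) := ⟨_, rfl⟩
  obtain ⟨B, hB⟩ : ∃ B, B = f y' (j *ᵥ y') := ⟨_, rfl⟩
  obtain ⟨hh, hhh⟩ : ∃ hh, hh = f y (j *ᵥ y') := ⟨_, rfl⟩
  have hd0 := d_ne_zero d hd
  have hex : ∀ a b : F,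
      f (a • y' + (b * d) • y) (j *ᵥ (a • y' + (b * d) • y)) = a * a * B + 2 * (a * b * d) * hh + b * b * (d * d) * A ∧
      f (a • y + b • y') (j *ᵥ (a • y + b • y')) = a * a * A + 2 * (a * b) * hh + b * b * B ∧
      f (a • y + b • y') (j *ᵥ (a • y' + (b * d) • y)) =
        (a * a + b * b * d) * hh + a * b * (d * A) + a * b * B := by
    intro a b
    refine ⟨?_, ?_, ?_⟩ <;>
    · simp only [mulVec_add, mulVec_smul, form_add_left, form_add_right, form_smul_left, form_smul_right,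
        f_jx_sym j hjf y' y, ← hA, ← hB, ← hhh]
      ring
  by_cases hB0 : B = 0
  · by_cases hA0 : A = 0
    · have hh0 : hh ≠ 0 := by
        intro e
        rcases indep_form j d hjj hjf hd hm hy0 (hA ▸ hA0) (hB ▸ hB0) hne with h | h
        · exact h hyy'
        · exact h (hhh ▸ e)
      refine key 1 1 (Or.inl one_ne_zero) ?_ (Or.inl ?_)
      · rw [(hex 1 1).1, hA0, hB0]
        simpa using mul_ne_zero (mul_ne_zero h2 hd0) hh0
      · rw [(hex 1 1).2.1, hA0, hB0]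
        simpa using mul_ne_zero h2 hh0
    · by_cases hh0 : hh = 0
      · refine key 1 1 (Or.inl one_ne_zero) ?_ (Or.inl ?_)
        · rw [(hex 1 1).1, hh0, hB0]
          simpa using mul_ne_zero (mul_ne_zero hd0 hd0) hA0
        · rw [(hex 1 1).2.1, hh0, hB0]
          simpa using hA0
      · refine key 0 1 (Or.inr one_ne_zero) ?_ (Or.inr ?_)
        · rw [(hex 0 1).1]
          simpa using mul_ne_zero (mul_ne_zero hd0 hd0) hA0
        · rw [(hex 0 1).2.2]
          simpa using mul_ne_zero hd0 hh0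
  · by_cases hor : A ≠ 0 ∨ hh ≠ 0
    · refine key 1 0 (Or.inl one_ne_zero) ?_ (hor.imp (fun h => ?_) fun h => ?_)
      · rw [(hex 1 0).1]; simpa using hB0
      · rw [(hex 1 0).2.1]; simpa using h
      · rw [(hex 1 0).2.2]; simpa using h
    · push Not at hor
      refine key 1 1 (Or.inl one_ne_zero) ?_ (Or.inl ?_)
      · rw [(hex 1 1).1, hor.1, hor.2]; simpa using hB0
      · rw [(hex 1 1).2.1, hor.1, hor.2]; simpa using hB0

include hjj hjf hd h2 hm in
/-- An isotropic line in the real position with respect to two others. -/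
theorem exists_mid {u w : Vs} (hu0 : u ≠ 0) (hu : f u (j *ᵥ u) = 0) (hw : f w (j *ᵥ w) = 0)
    (hind : ∀ a b : F, w ≠ a • u + b • (j *ᵥ u)) : ∃ p, f p (j *ᵥ p) = 0 ∧ f u (j *ᵥ p) = 0 ∧
      f w (j *ᵥ p) = 0 ∧ (∀ a b : F, p ≠ a • u + b • (j *ᵥ u)) ∧ ∀ a b : F, p ≠ a • w + b • (j *ᵥ w) := by
  have hd0 := d_ne_zero d hd
  have hw0 := ne_zero_of_indep j hind
  have hs : ∀ {u w : Vs}, u ≠ 0 → (f w u ≠ 0 ∨ f w (j *ᵥ u) ≠ 0) →
      (d * f w u) • u + (-f w (j *ᵥ u)) • (j *ᵥ u) ≠ 0 := fun {u w} hu h e => by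
    obtain ⟨h1, h3⟩ := hzero j d hjj hd hu e
    exact h.elim (fun h => h ((mul_eq_zero.mp h1).resolve_left hd0)) (fun h => h (neg_eq_zero.mp h3))
  have huw := indep_form j d hjj hjf hd hm hu0 hu hw hind
  have hwu := indep_form j d hjj hjf hd hm hw0 hw hu (indep_symm j d hjj hd hu0 hind)
  obtain ⟨c, hcu, hcw⟩ := exists_two_ne (hs hu0 hwu) (hs hw0 huw)
  let φ : Vs →ₗ[F] (Fin 3 → F) := LinearMap.pi ![(sympBilin m F u).comp (Matrix.mulVecLin j),
    (sympBilin m F w).comp (Matrix.mulVecLin j), sympBilin m F c]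
  obtain ⟨p, hp0, hp, hpN⟩ := FormMax.OrthSL.exists_zero_ker h2 φ (norm2 j)
    (by rw [Fintype.card_sum, Fintype.card_fin]; omega)
  rw [norm2_apply] at hpN
  have hup : f u (j *ᵥ p) = 0 := by simpa [φ] using congrFun hp 0
  have hwp : f w (j *ᵥ p) = 0 := by simpa [φ] using congrFun hp 1
  have hcp : f c p = 0 := by simpa [φ] using congrFun hp 2
  have hno : ∀ {u w : Vs}, f w (j *ᵥ p) = 0 → f c ((d * f w u) • u + (-f w (j *ᵥ u)) • (j *ᵥ u)) ≠ 0 →
      ∀ a b : F, p ≠ a • u + b • (j *ᵥ u) := by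
    intro u w h1 h3 a b e
    rw [form_add_right, form_smul_right, form_smul_right] at h3
    rw [e, mulVec_add, mulVec_smul, mulVec_smul, hjj, form_add_right, form_smul_right, form_smul_right,
      form_smul_right] at h1
    have h4 := hcp
    rw [e, form_add_right, form_smul_right, form_smul_right] at h4
    have ha : a = 0 := (mul_eq_zero.mp (show a * (d * f w u * f c u + -f w (j *ᵥ u) * f c (j *ᵥ u)) = 0 by
      linear_combination d * f w u * h4 - f c (j *ᵥ u) * h1)).resolve_right h3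
    have hb : b = 0 := (mul_eq_zero.mp (show b * (d * f w u * f c u + -f w (j *ᵥ u) * f c (j *ᵥ u)) = 0 by
      linear_combination f c u * h1 - f w (j *ᵥ u) * h4)).resolve_right h3
    exact hp0 (by rw [e, ha, hb, zero_smul, zero_smul, add_zero])
  exact ⟨p, hpN, hup, hwp, hno hwp hcu, hno hup hcw⟩

include hjj hjf hd h2 hm in
/-- One root vector gives all of them. -/
theorem all_root {H : Subgroup (GL (Fin m ⊕ Fin m) F)} (hH : H ≤ Cfsg.spGL m F)
    (hR : ∀ v, f v (j *ᵥ v) = 0 → ∀ c, R j d v c ∈ H) {r₀ : Vs} (hr0' : r₀ ≠ 0) (hr' : r₀ ∈ root H) (x : Vs) :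
    x ∈ root H := by
  -- isotropic vectors in the same real position as a root vector
  have step : ∀ z v, z ∈ root H → f v (j *ᵥ v) = 0 → f z (j *ᵥ v) = 0 → f z v = 1 → v ∈ root H := by
    intro z v hz hv h1 h3
    have h4 := root_map hH (hR v hv 1) hz
    rw [R_mulVec j d hjj hjf hd hv, h1, h3, mul_one, mul_zero, zero_smul, sub_zero, one_smul] at h4
    have h5 := root_add hH h4 (root_smul hz (-1)) (by
      rw [form_smul_right, form_add_left, sympForm_self, sympForm_comm v z, h3]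
      simpa using (one_ne_zero : (1 : F) ≠ 0))
    rwa [neg_one_smul, add_comm z v, add_neg_cancel_right] at h5
  have real : ∀ z v, z ∈ root H → f v (j *ᵥ v) = 0 → f z (j *ᵥ v) = 0 → f z v ≠ 0 → v ∈ root H := by
    intro z v hz hv h1 h3
    exact step ((f z v)⁻¹ • z) v (root_smul hz _) hv (by rw [form_smul_left, h1, mul_zero])
      (by rw [form_smul_left, inv_mul_cancel₀ h3])
  obtain ⟨r, hr0, hri, hr⟩ : ∃ r, r ≠ 0 ∧ f r (j *ᵥ r) = 0 ∧ r ∈ root H := by
    obtain ⟨v, hv, h1, h3⟩ := exists_presc_one j d hjj hjf hd h2 hm hr0' 1 0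
    refine ⟨v, fun e => ?_, hv, step r₀ v hr' hv h3 h1⟩
    rw [e, ← zero_smul F (0 : Vs), form_smul_right, zero_mul] at h1
    exact zero_ne_one h1
  have indep : ∀ z y, z ∈ root H → z ≠ 0 → f z (j *ᵥ z) = 0 → (∀ a b : F, y ≠ a • z + b • (j *ᵥ z)) →
      f y (j *ᵥ y) = 0 → y ∈ root H := by
    intro z y hz hz0 hzi hind hy
    obtain ⟨p, hp, hzp, hyp, hpz, hpy⟩ := exists_mid j d hjj hjf hd h2 hm hz0 hzi hy hind
    have hp0 := ne_zero_of_indep j hpz
    have h1 := (indep_form j d hjj hjf hd hm hz0 hzi hp hpz).resolve_right (fun h => h hzp)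
    have h3 := (indep_form j d hjj hjf hd hm (ne_zero_of_indep j hind) hy hp hpy).resolve_right (fun h => h hyp)
    refine real p y (real z p hz hp hzp h1) hy (by rw [f_jx_sym j hjf]; exact hyp) ?_
    rw [sympForm_comm]; exact neg_ne_zero.mpr h3
  have iso : ∀ y, f y (j *ᵥ y) = 0 → y ∈ root H := by
    intro y hy
    rcases eq_or_ne y 0 with rfl | hy0
    · simpa using root_smul hr (0 : F)
    by_cases hind : ∀ a b : F, y ≠ a • r + b • (j *ᵥ r)
    · exact indep r y hr hr0 hri hind hy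
    push Not at hind
    obtain ⟨a, b, rfl⟩ := hind
    obtain ⟨v, hv, h1, h3⟩ := exists_presc_one j d hjj hjf hd h2 hm hr0 1 0
    have hvr : v ∈ root H := step r v hr hv h3 h1
    have hv0 : v ≠ 0 := fun e => by
      rw [e, ← zero_smul F (0 : Vs), form_smul_right, zero_mul] at h1
      exact zero_ne_one h1
    refine indep v _ hvr hv0 hv (fun c c' e => ?_) hy
    have e1 := congrArg (fun z => f z v) e
    have e2 := congrArg (fun z => f z (j *ᵥ v)) e
    simp only [form_add_left, form_smul_left, hjf, h1, h3, sympForm_self, hv, hjj, form_smul_right,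
      neg_zero, mul_zero, mul_neg, mul_one, add_zero] at e1 e2
    have hb : b = 0 := by
      have : b * d = 0 := by linear_combination -e2
      exact (mul_eq_zero.mp this).resolve_right (d_ne_zero d hd)
    exact hy0 (by rw [hb, e1, zero_smul, zero_smul, add_zero])
  rcases eq_or_ne x 0 with rfl | hx
  · simpa using root_smul hr (0 : F)
  obtain ⟨a, b, ha, hb, hab, rfl⟩ := exists_split j d hjj hjf hd h2 hm hx
  exact root_add hH (iso a ha) (iso b hb) hab

include hjj hjf hd h2 hm in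
/-- An element mapping isotropic lines to lines is semilinear. -/
theorem semi_of_lines {g : GLs}
    (hl : ∀ w, w ≠ 0 → f w (j *ᵥ w) = 0 → ∃ a b : F,
      (g : Ms) *ᵥ (j *ᵥ w) = a • ((g : Ms) *ᵥ w) + b • (j *ᵥ ((g : Ms) *ᵥ w))) :
    Semi j g := by
  have hg0 : ∀ {x : Vs}, x ≠ 0 → (g : Ms) *ᵥ x ≠ 0 := fun {x} hx h0 => hx (by
    have h1 := congrArg (((g⁻¹ : GLs) : Ms) *ᵥ ·) h0
    simpa [mulVec_mulVec] using h1)
  have hinj : ∀ {x y : Vs}, (g : Ms) *ᵥ x = (g : Ms) *ᵥ y → x = y := fun {x y} h0 => by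
    have h1 := congrArg (((g⁻¹ : GLs) : Ms) *ᵥ ·) h0
    simpa [mulVec_mulVec] using h1
  choose! al be hab using hl
  -- orthogonal independent isotropic vectors carry the same multiplier
  have horth : ∀ u w, u ≠ 0 → f u (j *ᵥ u) = 0 → f w (j *ᵥ w) = 0 → f u (j *ᵥ w) = 0 →
      (∀ a b : F, w ≠ a • u + b • (j *ᵥ u)) → al u = al w ∧ be u = be w := by
    intro u w hu0 hu hw huw hind
    have hw0 : w ≠ 0 := fun e => hind 0 0 (by rw [e, zero_smul, zero_smul, add_zero])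
    have hs0 : u + w ≠ 0 := fun e => hind (-1) 0 (by
      rw [eq_neg_of_add_eq_zero_right e, zero_smul, add_zero, neg_one_smul])
    have hs : f (u + w) (j *ᵥ (u + w)) = 0 := by rw [norm2_add j hjf, hu, hw, huw]; ring
    have hind' : ∀ a b : F, (g : Ms) *ᵥ w ≠ a • ((g : Ms) *ᵥ u) + b • (j *ᵥ ((g : Ms) *ᵥ u)) := by
      intro a b e
      have hN : be u ≠ 0 := by
        intro h0
        have h1 := hab u hu0 hu
        rw [h0, zero_smul, add_zero, ← mulVec_smul] at h1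
        have h3 : (-al u) • u + (1 : F) • (j *ᵥ u) = 0 := by rw [hinj h1]; module
        exact one_ne_zero (hzero j d hjj hd hu0 h3).2
      refine hind (a - b / be u * al u) (b / be u) (hinj ?_)
      rw [mulVec_add, mulVec_smul, mulVec_smul, hab u hu0 hu, e, smul_add, smul_smul, smul_smul,
        div_mul_cancel₀ _ hN]
      module
    have h1 := hab _ hs0 hs
    rw [mulVec_add, mulVec_add, mulVec_add, mulVec_add, hab u hu0 hu, hab w hw0 hw] at h1
    obtain ⟨e1, e2, e3, e4⟩ := quad_indep j d hjj hd (hg0 hu0) hind'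
      (a := al u - al (u + w)) (b := be u - be (u + w)) (a' := al w - al (u + w)) (b' := be w - be (u + w))
      (by rw [← sub_eq_zero] at h1; rw [← h1]; module)
    exact ⟨(sub_eq_zero.mp e1).trans (sub_eq_zero.mp e3).symm, (sub_eq_zero.mp e2).trans (sub_eq_zero.mp e4).symm⟩
  have hconst₀ : ∀ u w, u ≠ 0 → f u (j *ᵥ u) = 0 → f w (j *ᵥ w) = 0 →
      (∀ a b : F, w ≠ a • u + b • (j *ᵥ u)) → al u = al w ∧ be u = be w := by
    intro u w hu0 hu hw hind
    obtain ⟨p, hp, hup, hwp, hpu, hpw⟩ := exists_mid j d hjj hjf hd h2 hm hu0 hu hw hind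
    obtain ⟨h1, h3⟩ := horth u p hu0 hu hp hup hpu
    obtain ⟨h4, h5⟩ := horth w p (ne_zero_of_indep j hind) hw hp hwp hpw
    exact ⟨h1.trans h4.symm, h3.trans h5.symm⟩
  have hconst : ∀ u w, u ≠ 0 → f u (j *ᵥ u) = 0 → w ≠ 0 → f w (j *ᵥ w) = 0 →
      al u = al w ∧ be u = be w := by
    intro u w hu0 hu hw0 hw
    by_cases hind : ∀ a b : F, w ≠ a • u + b • (j *ᵥ u)
    · exact hconst₀ u w hu0 hu hw hind
    push Not at hind
    obtain ⟨a, b, hw'⟩ := hind
    obtain ⟨t, ht, h1, h3⟩ := exists_presc_one j d hjj hjf hd h2 hm hu0 1 0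
    have hut : ∀ c c' : F, t ≠ c • u + c' • (j *ᵥ u) := fun c c' e => by
      rw [e, form_add_right, form_smul_right, form_smul_right, sympForm_self, hu] at h1
      simp at h1
    have hwt : ∀ c c' : F, t ≠ c • w + c' • (j *ᵥ w) := fun c c' e =>
      hut (c * a + c' * b * d) (c * b + c' * a) (by
        rw [e, hw', mulVec_add, mulVec_smul, mulVec_smul, hjj]; module)
    obtain ⟨h4, h5⟩ := hconst₀ u t hu0 hu ht hut
    obtain ⟨h6, h7⟩ := hconst₀ w t hw0 hw ht hwt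
    exact ⟨h4.trans h6.symm, h5.trans h7.symm⟩
  obtain ⟨e, e', he, -, hee, -⟩ := exists_iso_pair j d hjj hjf hd h2 hm
  have he0 : e ≠ 0 := fun h0 => hee (by rw [h0, ← zero_smul F (0 : Vs), form_smul_left, zero_mul])
  have hall : ∀ x, (g : Ms) *ᵥ (j *ᵥ x) = al e • ((g : Ms) *ᵥ x) + be e • (j *ᵥ ((g : Ms) *ᵥ x)) := by
    have iso : ∀ u, f u (j *ᵥ u) = 0 →
        (g : Ms) *ᵥ (j *ᵥ u) = al e • ((g : Ms) *ᵥ u) + be e • (j *ᵥ ((g : Ms) *ᵥ u)) := by
      intro u hu
      rcases eq_or_ne u 0 with rfl | hu0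
      · simp
      · rw [← (hconst u e hu0 hu he0 he).1, ← (hconst u e hu0 hu he0 he).2]; exact hab u hu0 hu
    intro x
    rcases eq_or_ne x 0 with rfl | hx
    · simp
    obtain ⟨a, b, ha, hb, -, rfl⟩ := exists_split j d hjj hjf hd h2 hm hx
    rw [mulVec_add, mulVec_add, iso a ha, iso b hb, mulVec_add, mulVec_add]
    module
  have h1 := hall (j *ᵥ e)
  rw [hjj, mulVec_smul, hall e, mulVec_add, mulVec_smul, mulVec_smul, hjj] at h1
  obtain ⟨c1, c2⟩ := hzero j d hjj hd (hg0 he0) (s := al e * al e + be e * be e * d - d) (t := 2 * (al e * be e))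
    (by rw [← sub_eq_zero] at h1; rw [← neg_eq_zero, ← h1]; module)
  have ha : al e = 0 := by
    rcases mul_eq_zero.mp ((mul_eq_zero.mp c2).resolve_left h2) with h0 | h0
    · exact h0
    · exact absurd (show al e * al e = d by rw [h0] at c1; linear_combination c1) (hd _)
  refine ⟨be e, mul_self_eq_one_iff.mp (mul_right_cancel₀ (d_ne_zero d hd) ?_), fun x => ?_⟩
  · rw [ha] at c1; linear_combination c1
  · rw [hall x, ha, zero_smul, zero_add]

include hjj hjf hd h2 hm in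
/-- The normaliser of the extension field is maximal in the symplectic group. -/
theorem isMaximalIn_semilinear {N : Subgroup (GL (Fin m ⊕ Fin m) F)} (hN : ∀ g, g ∈ N ↔ Semi j g) :
    Cfsg.Geo.IsMaximalIn (Cfsg.spGL m F) (N ⊓ Cfsg.spGL m F) := by
  refine ⟨lt_of_le_of_ne inf_le_right fun heq => ?_, fun H hNH hHS => ?_⟩
  · obtain ⟨v, q₀, hv, -, hvq, -⟩ := exists_iso_pair j d hjj hjf hd h2 hm
    have hv0 : v ≠ 0 := fun e => hvq (by rw [e, ← zero_smul F (0 : Vs), form_smul_left, zero_mul])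
    obtain ⟨x, hx, h1, h3⟩ := exists_presc_one j d hjj hjf hd h2 hm hv0 0 1
    obtain ⟨ε, hε, hT⟩ := (hN _).mp (heq.ge (T_mem v 1)).1
    have hxv : f x v = 0 := by rw [sympForm_comm, h1, neg_zero]
    have hjxv : f (j *ᵥ x) v = -1 := by rw [sympForm_comm, h3]
    have h4 := hT x
    rw [T_mulVec, T_mulVec, hxv, mul_zero, zero_smul, add_zero, hjxv, one_mul] at h4
    have h5 : v = (1 - ε) • (j *ᵥ x) := by
      rw [← sub_eq_zero] at h4
      rw [← sub_eq_zero, ← neg_eq_zero, ← h4]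
      module
    rw [h5, form_smul_left, sympForm_self, mul_zero] at h3
    exact zero_ne_one h3
  by_cases hle : H ≤ N
  · exact Or.inl (le_antisymm (le_inf hle hHS) hNH)
  right
  obtain ⟨g, hgH, hg⟩ := SetLike.not_le_iff_exists.mp hle
  have hR : ∀ v, f v (j *ᵥ v) = 0 → ∀ c, R j d v c ∈ H := fun v hv c =>
    hNH ⟨(hN _).mpr (R_semi j d hjj hjf hd hv c), R_mem j d v c⟩
  obtain ⟨r, hr0, hr⟩ : ∃ r, r ≠ 0 ∧ r ∈ root H := by
    by_cases hl : ∀ w, w ≠ 0 → f w (j *ᵥ w) = 0 → ∃ a b : F,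
        (g : Ms) *ᵥ (j *ᵥ w) = a • ((g : Ms) *ᵥ w) + b • (j *ᵥ ((g : Ms) *ᵥ w))
    · exact absurd ((hN g).mpr (semi_of_lines j d hjj hjf hd h2 hm hl)) hg
    push Not at hl
    obtain ⟨w, hw0, hw, hne⟩ := hl
    exact exists_root j d hjj hjf hd h2 hm hHS hR hgH hw hw0 hne
  exact eq_spGL hHS fun x => all_root j d hjj hjf hd h2 hm hHS hR hr0 hr x

end Cfsg.Agent.Lib.ExtFieldMax.SympQuadSmall
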