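import Cfsg.Agent.Lib.ExtFieldMax.SympQuadratic
import Cfsg.Agent.Lib.ExtFieldMax.SympQuadSmall
import Cfsg.Prelude.Def_GeometricClasses

/-!
The normaliser of an adjoint-closed, non-self-adjoint quadratic field is maximal in the symplectic group.
-/

set_option autoImplicit false
open Cfsg Cfsg.Agent

namespace Cfsg.Agent.Lib.ExtFieldMax.SympQuadNorm

open Matrix

variable {F : Type*} [Field F] {ι : Type} [Fintype ι] [DecidableEq ι]

/-- A quadratic field of matrices is generated by a square root of a non-square. -/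
theorem exists_root_gen [Nonempty ι] (h2 : (2 : F) ≠ 0) (K : Subalgebra F (Matrix ι ι F))
    (hK : Cfsg.Geo.IsFieldSubalgebra 2 K) :
    ∃ (j : Matrix ι ι F) (d : F), j ∈ K ∧ j * j = d • 1 ∧ (∀ s : F, s * s ≠ d) ∧
      ∀ k ∈ K, ∃ a b : F, k = a • 1 + b • j := by
  classical
  obtain ⟨k, hk, hkn⟩ : ∃ k ∈ K, ∀ c : F, k ≠ c • (1 : Matrix ι ι F) := by
    by_contra hno
    push Not at hno
    have hle : Subalgebra.toSubmodule K ≤ Submodule.span F {(1 : Matrix ι ι F)} := fun x hx => by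
      obtain ⟨c, rfl⟩ := hno x hx
      exact Submodule.smul_mem _ c (Submodule.mem_span_singleton_self _)
    have h1 := Submodule.finrank_mono hle
    rw [Subalgebra.finrank_toSubmodule, hK.finrank_eq, finrank_span_singleton one_ne_zero] at h1
    omega
  have hspan : ∀ x ∈ K, ∃ a b : F, x = a • (1 : Matrix ι ι F) + b • k := by
    intro x hx
    have hli : LinearIndependent F ![(1 : Matrix ι ι F), k] := by
      rw [LinearIndependent.pair_iff' one_ne_zero]
      exact fun c e => hkn c e.symm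
    have hle : Submodule.span F (Set.range ![(1 : Matrix ι ι F), k]) ≤ Subalgebra.toSubmodule K := by
      rw [Submodule.span_le]
      rintro _ ⟨i, rfl⟩
      fin_cases i
      · exact K.one_mem
      · exact hk
    have he := Submodule.eq_of_le_of_finrank_eq hle (by
      rw [finrank_span_eq_card hli, Subalgebra.finrank_toSubmodule, hK.finrank_eq, Fintype.card_fin])
    have hx' : x ∈ Submodule.span F (Set.range ![(1 : Matrix ι ι F), k]) := he ▸ hx
    rw [Matrix.range_cons, Matrix.range_cons, Matrix.range_empty, Set.union_empty, Set.singleton_union,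
      Submodule.mem_span_pair] at hx'
    obtain ⟨a, b, e⟩ := hx'
    exact ⟨a, b, e.symm⟩
  obtain ⟨p, q, hpq⟩ := hspan (k * k) (K.mul_mem hk hk)
  obtain ⟨j, hj⟩ : ∃ j, j = k - (q / 2) • (1 : Matrix ι ι F) := ⟨_, rfl⟩
  have hjK : j ∈ K := hj ▸ K.sub_mem hk (K.smul_mem K.one_mem _)
  have hjj : j * j = (p + q * q / 4) • (1 : Matrix ι ι F) := by
    rw [hj, sub_mul, mul_sub, mul_sub, hpq, smul_mul_assoc, smul_mul_assoc, mul_smul_comm, one_mul,
      one_mul, mul_one]
    have h4 : (4 : F) ≠ 0 := by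
      rw [show (4 : F) = 2 * 2 by norm_num]; exact mul_ne_zero h2 h2
    match_scalars <;> field_simp <;> ring
  refine ⟨j, _, hjK, hjj, fun s hs => ?_, fun x hx => ?_⟩
  · have hprod : (j - s • 1) * (j + s • 1) = (0 : Matrix ι ι F) := by
      rw [sub_mul, mul_add, mul_add, hjj, smul_mul_assoc, smul_mul_assoc, mul_smul_comm, one_mul,
        one_mul, mul_one, ← hs]
      module
    have hne : ∀ t : F, j - t • (1 : Matrix ι ι F) ≠ 0 := fun t e => hkn (q / 2 + t) (by
      rw [sub_eq_zero, hj, sub_eq_iff_eq_add] at e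
      rw [e, add_smul, add_comm])
    obtain ⟨y, -, hy⟩ := hK.inv _ (K.sub_mem hjK (K.smul_mem K.one_mem s)) (hne s)
    have hy' : y * (j - s • 1) = 1 := mul_eq_one_comm.mp hy
    refine hne (-s) ?_
    have h3 := congrArg (y * ·) hprod
    simp only [← mul_assoc, hy', one_mul, mul_zero] at h3
    rw [neg_smul, sub_neg_eq_add]
    exact h3
  · obtain ⟨a, b, rfl⟩ := hspan x hx
    exact ⟨a + b * (q / 2), b, by rw [hj]; module⟩

/-- The reduction to a generator squaring to a non-square. -/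
theorem isMaximalIn_normalizer_of {F : Type*} [Field F] [Fintype F] (m : ℕ) (hm : 0 < m) (hmax : ∀ (j : Matrix (Fin m ⊕ Fin m) (Fin m ⊕ Fin m) F) (d : F), (∀ x : Fin m ⊕ Fin m → F, j *ᵥ (j *ᵥ x) = d • x) → (∀ x y : Fin m ⊕ Fin m → F, Cfsg.sympForm m F (j *ᵥ x) y = -Cfsg.sympForm m F x (j *ᵥ y)) → (∀ s : F, s * s ≠ d) → ∀ {N : Subgroup (GL (Fin m ⊕ Fin m) F)}, (∀ g, g ∈ N ↔ Lib.ExtFieldMax.SympQuad.Semi j g) → Cfsg.Geo.IsMaximalIn (Cfsg.spGL m F) (N ⊓ Cfsg.spGL m F)) (hodd : Odd (Fintype.card F)) (K : Subalgebra F (Matrix (Fin m ⊕ Fin m) (Fin m ⊕ Fin m) F)) (hK : Cfsg.Geo.IsFieldSubalgebra 2 K) (hac : Cfsg.Geo.IsAdjointClosedFor (Cfsg.sympForm m F) K) (hnsa : ¬ Cfsg.Geo.IsSelfAdjointFor (Cfsg.sympForm m F) K) : Cfsg.Geo.IsMaximalIn (Cfsg.spGL m F) (Cfsg.Geo.subalgebraNormalizer K ⊓ Cfsg.spGL m F) := by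
  classical
  have : Nonempty (Fin m ⊕ Fin m) := ⟨Sum.inl ⟨0, by omega⟩⟩
  have h2 : (2 : F) ≠ 0 := Ring.two_ne_zero fun h => by
    have h' := FiniteField.even_card_of_char_two h
    obtain ⟨k, hk⟩ := hodd; omega
  obtain ⟨j, d, hjK, hjj, hd, hspan⟩ := exists_root_gen h2 K hK
  have hd0 : d ≠ 0 := fun e => hd 0 (by rw [mul_zero, e])
  have hjjv : ∀ x, j *ᵥ (j *ᵥ x) = d • x := fun x => by
    rw [mulVec_mulVec, hjj, smul_mulVec, one_mulVec]
  -- the adjoint of `j` is `-j`
  obtain ⟨j', hj'K, hadj⟩ := hac j hjK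
  obtain ⟨a, b, rfl⟩ := hspan j' hj'K
  have key : ∀ u v, Cfsg.sympForm m F (j *ᵥ u) v =
      a * Cfsg.sympForm m F u v + b * Cfsg.sympForm m F u (j *ᵥ v) := fun u v => by
    rw [hadj u v, add_mulVec, smul_mulVec, smul_mulVec, one_mulVec,
      Lib.SympMax.form_add_right, Lib.SympMax.form_smul_right, Lib.SympMax.form_smul_right]
  have hab : ∀ u v, a * (1 + b) * Cfsg.sympForm m F u v +
      (b * b - 1) * Cfsg.sympForm m F u (j *ᵥ v) = 0 := fun u v => by
    have h1 := key v u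
    rw [Lib.Forms.sympForm_comm v u, Lib.Forms.sympForm_comm v (j *ᵥ u),
      Lib.Forms.sympForm_comm (j *ᵥ v) u, key u v] at h1
    linear_combination h1
  have hmat : (a * (1 + b)) • (1 : Matrix (Fin m ⊕ Fin m) (Fin m ⊕ Fin m) F) + (b * b - 1) • j = 0 := by
    refine Matrix.ext_iff_mulVec.mpr fun v => ?_
    rw [zero_mulVec, add_mulVec, smul_mulVec, smul_mulVec, one_mulVec]
    by_contra hne
    obtain ⟨u, hu⟩ := Lib.SympMax.exists_form_ne hne
    rw [Lib.Forms.sympForm_comm, Lib.SympMax.form_add_right, Lib.SympMax.form_smul_right,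
      Lib.SympMax.form_smul_right, hab, neg_zero] at hu
    exact hu rfl
  have hind : ∀ s t : F, s • (1 : Matrix (Fin m ⊕ Fin m) (Fin m ⊕ Fin m) F) + t • j = 0 → s = 0 ∧ t = 0 := by
    intro s t e
    have ht : t = 0 := by
      by_contra ht
      have hjs : j = (-s / t) • (1 : Matrix (Fin m ⊕ Fin m) (Fin m ⊕ Fin m) F) := by
        rw [div_eq_inv_mul, mul_smul, neg_smul, ← eq_neg_of_add_eq_zero_right e, inv_smul_smul₀ ht]
      refine hd (-s / t) ?_
      have h1 := hjj
      rw [hjs, smul_mul_smul_comm, one_mul] at h1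
      exact smul_left_injective F one_ne_zero h1
    subst ht
    rw [zero_smul, add_zero] at e
    exact ⟨(smul_eq_zero.mp e).resolve_right one_ne_zero, rfl⟩
  obtain ⟨hab1, hab2⟩ := hind _ _ hmat
  have hbne : b ≠ 1 := by
    intro hb
    subst hb
    have ha : a = 0 := by
      have : a * 2 = 0 := by linear_combination hab1
      exact (mul_eq_zero.mp this).resolve_right h2
    refine hnsa fun k hk u v => ?_
    obtain ⟨s, t, rfl⟩ := hspan k hk
    rw [add_mulVec, add_mulVec, smul_mulVec, smul_mulVec, smul_mulVec, smul_mulVec, one_mulVec, one_mulVec,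
      Lib.SympMax.form_add_left, Lib.SympMax.form_add_right, Lib.SympMax.form_smul_left,
      Lib.SympMax.form_smul_left, Lib.SympMax.form_smul_right, Lib.SympMax.form_smul_right, key, ha]
    ring
  have hb : b = -1 := (mul_self_eq_one_iff.mp (sub_eq_zero.mp hab2)).resolve_left hbne
  -- `j ^ 2 = d` forces the scalar part of the adjoint to vanish
  have ha : a = 0 := by
    by_contra ha
    have h4 : (a * a) • (1 : Matrix (Fin m ⊕ Fin m) (Fin m ⊕ Fin m) F) + (-(2 * a)) • j = 0 := by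
      refine Matrix.ext_iff_mulVec.mpr fun w => ?_
      rw [zero_mulVec, add_mulVec, smul_mulVec, smul_mulVec, one_mulVec]
      by_contra hne
      obtain ⟨x, hx⟩ := Lib.SympMax.exists_form_ne hne
      refine hx ?_
      have h1 := key (j *ᵥ x) w
      rw [hjjv, Lib.SympMax.form_smul_left, key x w, key x (j *ᵥ w), hjjv, Lib.SympMax.form_smul_right, hb] at h1
      rw [Lib.Forms.sympForm_comm, Lib.SympMax.form_add_right, Lib.SympMax.form_smul_right,
        Lib.SympMax.form_smul_right]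
      linear_combination h1
    exact mul_ne_zero h2 ha (neg_eq_zero.mp (hind _ _ h4).2)
  have hjf : ∀ u v, Cfsg.sympForm m F (j *ᵥ u) v = -Cfsg.sympForm m F u (j *ᵥ v) := fun u v => by
    rw [key, ha, hb]; ring
  refine hmax j d hjjv hjf hd fun g => ?_
  have hKj : ∀ s t : F, s • (1 : Matrix (Fin m ⊕ Fin m) (Fin m ⊕ Fin m) F) + t • j ∈ K := fun s t =>
    K.add_mem (K.smul_mem K.one_mem s) (K.smul_mem hjK t)
  constructor
  · intro hg
    have h1 := (hg j).mp hjK
    obtain ⟨s, t, hst⟩ := hspan _ h1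
    have hgj : (g : Matrix (Fin m ⊕ Fin m) (Fin m ⊕ Fin m) F) * j =
        (s • 1 + t • j) * (g : Matrix (Fin m ⊕ Fin m) (Fin m ⊕ Fin m) F) := by
      rw [← hst, mul_assoc, ← Units.val_mul, inv_mul_cancel, Units.val_one, mul_one]
    have hsq : ((s • 1 + t • j) * (s • 1 + t • j) : Matrix (Fin m ⊕ Fin m) (Fin m ⊕ Fin m) F) = d • 1 := by
      rw [← hst]
      calc _ = (g : Matrix (Fin m ⊕ Fin m) (Fin m ⊕ Fin m) F) * (j * (((g⁻¹ : GL _ F) :
              Matrix (Fin m ⊕ Fin m) (Fin m ⊕ Fin m) F) * (g : Matrix (Fin m ⊕ Fin m) (Fin m ⊕ Fin m) F)) * j) *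
            ((g⁻¹ : GL _ F) : Matrix (Fin m ⊕ Fin m) (Fin m ⊕ Fin m) F) := by noncomm_ring
        _ = _ := by
          rw [← Units.val_mul, inv_mul_cancel, Units.val_one, mul_one, hjj, mul_smul_comm, mul_one,
            smul_mul_assoc, ← Units.val_mul, mul_inv_cancel, Units.val_one]
    rw [add_mul, mul_add, mul_add, smul_mul_smul_comm, smul_mul_smul_comm, smul_mul_smul_comm,
      smul_mul_smul_comm, hjj, one_mul, one_mul, mul_one] at hsq
    obtain ⟨c1, c2⟩ := hind (s * s + t * t * d - d) (2 * (s * t)) (by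
      rw [← sub_eq_zero] at hsq
      rw [← hsq]
      module)
    have hs0 : s = 0 := by
      rcases mul_eq_zero.mp ((mul_eq_zero.mp c2).resolve_left h2) with h0 | h0
      · exact h0
      · exact absurd (show s * s = d by rw [h0] at c1; linear_combination c1) (hd _)
    refine ⟨t, mul_self_eq_one_iff.mp (mul_right_cancel₀ hd0 (by rw [hs0] at c1; linear_combination c1)),
      fun x => ?_⟩
    rw [mulVec_mulVec, hgj, hs0, zero_smul, zero_add, ← mulVec_mulVec, smul_mulVec]
  · rintro ⟨ε, hε, hg⟩ k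
    have hεε : ε * ε = 1 := mul_self_eq_one_iff.mpr hε
    have hgj : (g : Matrix (Fin m ⊕ Fin m) (Fin m ⊕ Fin m) F) * j =
        ε • (j * (g : Matrix (Fin m ⊕ Fin m) (Fin m ⊕ Fin m) F)) :=
      Matrix.ext_iff_mulVec.mpr fun x => by rw [← mulVec_mulVec, hg, smul_mulVec, mulVec_mulVec]
    have hconj : ∀ s t : F, (g : Matrix (Fin m ⊕ Fin m) (Fin m ⊕ Fin m) F) * (s • 1 + t • j) =
        (s • 1 + (t * ε) • j) * (g : Matrix (Fin m ⊕ Fin m) (Fin m ⊕ Fin m) F) := fun s t => by
      rw [mul_add, add_mul, mul_smul_comm, mul_smul_comm, smul_mul_assoc, smul_mul_assoc, mul_one, one_mul,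
        hgj, smul_smul]
    constructor
    · intro hk
      obtain ⟨s, t, rfl⟩ := hspan k hk
      rw [hconj, mul_assoc, ← Units.val_mul, mul_inv_cancel, Units.val_one, mul_one]
      exact hKj _ _
    · intro hk
      obtain ⟨s, t, hst⟩ := hspan _ hk
      have h1 := hconj s (t * ε)
      rw [mul_assoc t ε ε, hεε, mul_one, ← hst, mul_assoc, ← Units.val_mul, inv_mul_cancel, Units.val_one,
        mul_one] at h1
      have h3 := congrArg (((g⁻¹ : GL _ F) : Matrix (Fin m ⊕ Fin m) (Fin m ⊕ Fin m) F) * ·) h1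
      simp only [← mul_assoc, ← Units.val_mul, inv_mul_cancel, Units.val_one, one_mul] at h3
      rw [← h3]
      exact hKj _ _

/-- For a finite field F of odd order and m ≥ 5, let K be a subfield of the algebra of 2m × 2m matrices over F containing the scalars, of degree 2 over F, that is closed under adjoints for the standard alternating form on F^(2m) but whose elements are not all self-adjoint (so the adjoint map induces the automorphism of order two of K). Then the elements of Sp_2m(F) normalising K form a maximal subgroup of Sp_2m(F). -/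
theorem isMaximalIn_normalizer {F : Type*} [Field F] [Fintype F] (m : ℕ) (hm : 5 ≤ m) (hodd : Odd (Fintype.card F)) (K : Subalgebra F (Matrix (Fin m ⊕ Fin m) (Fin m ⊕ Fin m) F)) (hK : Cfsg.Geo.IsFieldSubalgebra 2 K) (hac : Cfsg.Geo.IsAdjointClosedFor (Cfsg.sympForm m F) K) (hnsa : ¬ Cfsg.Geo.IsSelfAdjointFor (Cfsg.sympForm m F) K) : Cfsg.Geo.IsMaximalIn (Cfsg.spGL m F) (Cfsg.Geo.subalgebraNormalizer K ⊓ Cfsg.spGL m F) :=
  have h2 : (2 : F) ≠ 0 := Ring.two_ne_zero fun h => by
    have h' := FiniteField.even_card_of_char_two h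
    obtain ⟨k, hk⟩ := hodd; omega
  isMaximalIn_normalizer_of m (by omega)
    (fun j d hjj hjf hd => Lib.ExtFieldMax.SympQuad.isMaximalIn_semilinear j d hjj hjf hd h2 (by omega)) hodd K hK hac hnsa

/-- The same from dimension eight on. -/
theorem isMaximalIn_normalizer_four {F : Type*} [Field F] [Fintype F] (m : ℕ) (hm : 4 ≤ m) (hodd : Odd (Fintype.card F)) (K : Subalgebra F (Matrix (Fin m ⊕ Fin m) (Fin m ⊕ Fin m) F)) (hK : Cfsg.Geo.IsFieldSubalgebra 2 K) (hac : Cfsg.Geo.IsAdjointClosedFor (Cfsg.sympForm m F) K) (hnsa : ¬ Cfsg.Geo.IsSelfAdjointFor (Cfsg.sympForm m F) K) : Cfsg.Geo.IsMaximalIn (Cfsg.spGL m F) (Cfsg.Geo.subalgebraNormalizer K ⊓ Cfsg.spGL m F) :=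
  have h2 : (2 : F) ≠ 0 := Ring.two_ne_zero fun h => by
    have h' := FiniteField.even_card_of_char_two h
    obtain ⟨k, hk⟩ := hodd; omega
  isMaximalIn_normalizer_of m (by omega)
    (fun j d hjj hjf hd => Lib.ExtFieldMax.SympQuad.isMaximalIn_semilinear j d hjj hjf hd h2 hm) hodd K hK hac hnsa

/-- The same in dimension six. -/
theorem isMaximalIn_normalizer_three {F : Type*} [Field F] [Fintype F] (m : ℕ) (hm : m = 3) (hodd : Odd (Fintype.card F)) (K : Subalgebra F (Matrix (Fin m ⊕ Fin m) (Fin m ⊕ Fin m) F)) (hK : Cfsg.Geo.IsFieldSubalgebra 2 K) (hac : Cfsg.Geo.IsAdjointClosedFor (Cfsg.sympForm m F) K) (hnsa : ¬ Cfsg.Geo.IsSelfAdjointFor (Cfsg.sympForm m F) K) : Cfsg.Geo.IsMaximalIn (Cfsg.spGL m F) (Cfsg.Geo.subalgebraNormalizer K ⊓ Cfsg.spGL m F) :=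
  have h2 : (2 : F) ≠ 0 := Ring.two_ne_zero fun h => by
    have h' := FiniteField.even_card_of_char_two h
    obtain ⟨k, hk⟩ := hodd; omega
  isMaximalIn_normalizer_of m (by omega)
    (fun j d hjj hjf hd => Lib.ExtFieldMax.SympQuadSmall.isMaximalIn_semilinear j d hjj hjf hd h2 hm) hodd K hK hac hnsa

end Cfsg.Agent.Lib.ExtFieldMax.SympQuadNorm
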