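import Mathlib
import Cfsg.Agent.Lib.SympMax.Basic
import Cfsg.Agent.Lib.FormMax.OrthBasic

/-!
# The semilinear unitary group over a quadratic extension is maximal in `Sp`, odd characteristic

The extension is given by a matrix `j` with `j² = d`, `d` a non-square, anti-self-adjoint for the form.
A line `⟨v, j v⟩` with `f(v, j v) = 0` is a totally singular line of the unitary structure.
-/

set_option autoImplicit false
set_option linter.unusedSectionVars false

namespace Cfsg.Agent.Lib.ExtFieldMax.SympQuad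

open Matrix
open Cfsg.Agent.Lib Cfsg.Agent.Lib.Forms Cfsg.Agent.Lib.SympMax

variable {F : Type*} [Field F] [Finite F] {m : ℕ}

local notation "Vs" => (Fin m ⊕ Fin m → F)
local notation "f" => Cfsg.sympForm m F
local notation "GLs" => GL (Fin m ⊕ Fin m) F
local notation "Ms" => Matrix (Fin m ⊕ Fin m) (Fin m ⊕ Fin m) F

theorem gl_ext {g h : GL (Fin m ⊕ Fin m) F}
    (e : ∀ x, (g : Ms) *ᵥ x = (h : Ms) *ᵥ x) : g = h := Units.ext (Matrix.ext_iff_mulVec.mpr e)

theorem gl_mulVec (a b : GL (Fin m ⊕ Fin m) F) (x : Vs) :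
    ((a * b : GLs) : Ms) *ᵥ x = (a : Ms) *ᵥ ((b : Ms) *ᵥ x) := by
  rw [mulVec_mulVec, Units.val_mul]

theorem form_sub_left' (u v w : Vs) : f (u - v) w = f u w - f v w := by
  rw [sub_eq_add_neg, form_add_left, ← neg_one_smul F v, form_smul_left]; ring

theorem T_add (v : Vs) (a b : F) : T v a * T v b = T v (a + b) := by
  refine gl_ext fun x => ?_
  rw [gl_mulVec, T_mulVec, T_mulVec, T_mulVec, form_add_left, form_smul_left, sympForm_self]
  module

theorem T_comm {u z : Vs} (h : f u z = 0) (a b : F) : Commute (T u a) (T z b) := by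
  refine gl_ext fun x => ?_
  have h' : f z u = 0 := by rw [sympForm_comm, h, neg_zero]
  rw [gl_mulVec, gl_mulVec, T_mulVec, T_mulVec, T_mulVec, T_mulVec, form_add_left, form_add_left,
    form_smul_left, form_smul_left, h, h']
  module

theorem T_pow (v : Vs) (a : F) : ∀ k : ℕ, T v a ^ k = T v ((k : F) * a)
  | 0 => by
    refine gl_ext fun x => ?_
    rw [pow_zero, T_mulVec, Nat.cast_zero, zero_mul, zero_mul, zero_smul, add_zero, Units.val_one,
      one_mulVec]
  | k + 1 => by rw [pow_succ, T_pow v a k, T_add, Nat.cast_succ, add_mul, one_mul]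

variable (j : Matrix (Fin m ⊕ Fin m) (Fin m ⊕ Fin m) F) (d : F)

/-- The rank-two root element of the unitary structure with centre the line of `v`. -/
noncomputable def R (v : Fin m ⊕ Fin m → F) (c : F) : GL (Fin m ⊕ Fin m) F :=
  T v c * T (j *ᵥ v) (-c / d)

/-- The elements commuting with `j` up to a sign. -/
def Semi (g : GL (Fin m ⊕ Fin m) F) : Prop :=
  ∃ ε : F, (ε = 1 ∨ ε = -1) ∧
    ∀ x : Fin m ⊕ Fin m → F, (g : Ms) *ᵥ (j *ᵥ x) = ε • (j *ᵥ ((g : Ms) *ᵥ x))

variable (hjj : ∀ x : Fin m ⊕ Fin m → F, j *ᵥ (j *ᵥ x) = d • x)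
  (hjf : ∀ x y : Fin m ⊕ Fin m → F,
    Cfsg.sympForm m F (j *ᵥ x) y = -Cfsg.sympForm m F x (j *ᵥ y))
  (hd : ∀ s : F, s * s ≠ d) (h2 : (2 : F) ≠ 0) (hm : 4 ≤ m)

include hd in
theorem d_ne_zero : d ≠ 0 := fun e => hd 0 (by rw [mul_zero, e])

include hd in
theorem norm_ne_zero {a b : F} (h : a ≠ 0 ∨ b ≠ 0) : a * a - d * (b * b) ≠ 0 := by
  intro e
  by_cases hb : b = 0
  · subst hb
    exact (h.resolve_right (not_not.mpr rfl)) (mul_self_eq_zero.mp (by linear_combination e))
  · refine hd (a / b) ?_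
    field_simp
    linear_combination e

include hjf in
theorem f_jx_sym (x y : Vs) : f x (j *ᵥ y) = f y (j *ᵥ x) := by
  rw [sympForm_comm y (j *ᵥ x), hjf, neg_neg]

include hjj hjf in
theorem f_jj (x y : Vs) : f (j *ᵥ x) (j *ᵥ y) = -(d * f x y) := by
  rw [hjf, hjj, form_smul_right]

include hjj hjf hd in
theorem R_mulVec {v : Vs} (hv : f v (j *ᵥ v) = 0) (c : F) (x : Vs) :
    (R j d v c : Ms) *ᵥ x = x + (c * f x v) • v - (c / d * f x (j *ᵥ v)) • (j *ᵥ v) := by
  rw [R, gl_mulVec, T_mulVec, T_mulVec, form_add_left, form_smul_left, hjf, hv, neg_zero, mul_zero,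
    add_zero, neg_div]
  module

include hjj hjf hd in
theorem R_semi {v : Vs} (hv : f v (j *ᵥ v) = 0) (c : F) : Semi j (R j d v c) := by
  refine ⟨1, Or.inl rfl, fun x => ?_⟩
  have hd0 := d_ne_zero d hd
  rw [one_smul, R_mulVec j d hjj hjf hd hv, R_mulVec j d hjj hjf hd hv, hjf, f_jj j d hjj hjf,
    mulVec_sub, mulVec_add, mulVec_smul, mulVec_smul, hjj]
  match_scalars <;> field_simp

theorem R_mem (v : Vs) (c : F) : R j d v c ∈ Cfsg.spGL m F := mul_mem (T_mem _ _) (T_mem _ _)

/-- `x` is orthogonal to the line of `c` in the unitary structure. -/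
def KP (c x : Fin m ⊕ Fin m → F) : Prop :=
  Cfsg.sympForm m F c x = 0 ∧ Cfsg.sympForm m F c (j *ᵥ x) = 0

theorem KP_add {c x y : Vs} (hx : KP j c x) (hy : KP j c y) : KP j c (x + y) := by
  refine ⟨?_, ?_⟩
  · rw [form_add_right, hx.1, hy.1, add_zero]
  · rw [mulVec_add, form_add_right, hx.2, hy.2, add_zero]

theorem KP_smul {c x : Vs} (a : F) (hx : KP j c x) : KP j c (a • x) := by
  refine ⟨?_, ?_⟩
  · rw [form_smul_right, hx.1, mul_zero]
  · rw [mulVec_smul, form_smul_right, hx.2, mul_zero]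

include hjj in
theorem KP_j {c x : Vs} (hx : KP j c x) : KP j c (j *ᵥ x) :=
  ⟨hx.2, by rw [hjj, form_smul_right, hx.1, mul_zero]⟩

include hjj hd in
/-- Independence over the extension field. -/
theorem quad_indep {v y : Vs} (hv : v ≠ 0) (hy : ∀ a b : F, y ≠ a • v + b • (j *ᵥ v)) {a b a' b' : F}
    (e : a • v + b • (j *ᵥ v) + (a' • y + b' • (j *ᵥ y)) = 0) : a = 0 ∧ b = 0 ∧ a' = 0 ∧ b' = 0 := by
  have hzero : ∀ {u : Vs}, u ≠ 0 → ∀ {s t : F}, s • u + t • (j *ᵥ u) = 0 → s = 0 ∧ t = 0 := by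
    intro u hu s t est
    by_contra hne
    have hN := norm_ne_zero d hd (a := s) (b := t) (by tauto)
    have e1 := congrArg (fun z => s • z - t • (j *ᵥ z)) est
    simp only [mulVec_add, mulVec_smul, hjj, mulVec_zero, smul_zero, sub_zero] at e1
    have e2 : (s * s - d * (t * t)) • u = 0 := by rw [← e1]; module
    exact hu ((smul_eq_zero.mp e2).resolve_left hN)
  have hab' : a' = 0 ∧ b' = 0 := by
    by_contra hne
    have hN := norm_ne_zero d hd (a := a') (b := b') (by tauto)
    have e1 := congrArg (fun z => a' • z - b' • (j *ᵥ z)) e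
    simp only [mulVec_add, mulVec_smul, hjj, mulVec_zero, smul_zero, sub_zero] at e1
    refine hy (-(a * a' - d * (b * b')) / (a' * a' - d * (b' * b')))
      (-(b * a' - a * b') / (a' * a' - d * (b' * b'))) ?_
    have e2 : (a' * a' - d * (b' * b')) • y =
        (-(a * a' - d * (b * b'))) • v + (-(b * a' - a * b')) • (j *ᵥ v) := by
      rw [← sub_eq_zero, ← e1]; module
    rw [div_eq_inv_mul, div_eq_inv_mul, mul_smul, mul_smul, ← smul_add, ← e2, inv_smul_smul₀ hN]
  obtain ⟨rfl, rfl⟩ := hab'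
  rw [zero_smul, zero_smul, add_zero, add_zero] at e
  exact ⟨(hzero hv e).1, (hzero hv e).2, rfl, rfl⟩

/-- The quadratic form `x ↦ f(x, j x)`. -/
noncomputable def norm2 (j : Matrix (Fin m ⊕ Fin m) (Fin m ⊕ Fin m) F) :
    QuadraticForm F (Fin m ⊕ Fin m → F) :=
  LinearMap.BilinMap.toQuadraticMap ((Forms.sympBilin m F).compl₂ (Matrix.mulVecLin j))

theorem norm2_apply (x : Vs) : norm2 j x = f x (j *ᵥ x) := by
  simp [norm2, LinearMap.BilinMap.toQuadraticMap_apply, Forms.sympBilin_apply]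

include hjf in
theorem norm2_add (x y : Vs) :
    f (x + y) (j *ᵥ (x + y)) = f x (j *ᵥ x) + 2 * f x (j *ᵥ y) + f y (j *ᵥ y) := by
  rw [mulVec_add, form_add_left, form_add_right, form_add_right, f_jx_sym j hjf y x]
  ring

include hjj hjf hd h2 hm in
/-- An isotropic pair orthogonal to two given lines, which do not span a totally singular plane. -/
theorem exists_perp_pair (v y : Vs)
    (hgood : (5 ≤ m ∧ ∃ i k : Fin 4, f (![v, j *ᵥ v, y, j *ᵥ y] i) (![v, j *ᵥ v, y, j *ᵥ y] k) ≠ 0) ∨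
      (∀ x ∈ Submodule.span F (Set.range ![v, j *ᵥ v, y, j *ᵥ y]),
        (∀ i : Fin 4, f (![v, j *ᵥ v, y, j *ᵥ y] i) x = 0) → x = 0) ∨
      Module.finrank F (Submodule.span F (Set.range ![v, j *ᵥ v, y, j *ᵥ y])) ≤ 2) :
    ∃ p q, f p (j *ᵥ p) = 0 ∧ f q (j *ᵥ q) = 0 ∧ f p q ≠ 0 ∧ f p (j *ᵥ q) ≠ 0 ∧
      KP j v p ∧ KP j y p ∧ KP j v q ∧ KP j y q := by
  classical
  let e : Fin 4 → Vs := ![v, j *ᵥ v, y, j *ᵥ y]
  set C := Submodule.span F (Set.range e) with hC
  have hCk : Module.finrank F C ≤ 4 := by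
    have := finrank_range_le_card (R := F) e
    simpa [hC, Set.finrank] using this
  set Rd := C ⊓ ⨅ i, LinearMap.ker (Forms.sympBilin m F (e i)) with hRd
  have hRmem : ∀ {x}, x ∈ C → (∀ i, f (e i) x = 0) → x ∈ Rd := fun {x} hx hx' =>
    ⟨hx, (Submodule.mem_iInf _).mpr fun i => by rw [LinearMap.mem_ker, Forms.sympBilin_apply, hx']⟩
  have hle : Rd ≤ C := inf_le_left
  have hsum : Module.finrank F C + Module.finrank F Rd + 3 ≤ 2 * m := by
    have hmono := Submodule.finrank_mono hle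
    rcases hgood with ⟨h5, i, k, hik⟩ | hnd | h
    · rcases hle.lt_or_eq with hlt | heq
      · have := Submodule.finrank_lt_finrank_of_lt hlt
        omega
      · refine absurd ?_ hik
        have hk : e k ∈ Rd := by rw [heq]; exact Submodule.subset_span ⟨k, rfl⟩
        have := LinearMap.mem_ker.mp ((Submodule.mem_iInf _).mp hk.2 i)
        rwa [Forms.sympBilin_apply] at this
    · have hbot : Rd = ⊥ := (Submodule.eq_bot_iff _).mpr fun x hx => hnd x hx.1 fun i => by
        have := LinearMap.mem_ker.mp ((Submodule.mem_iInf _).mp hx.2 i)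
        rwa [Forms.sympBilin_apply] at this
      rw [hbot, finrank_bot]
      omega
    · change Module.finrank F C ≤ 2 at h
      omega
  obtain ⟨L, hL⟩ := LinearMap.exists_leftInverse_of_injective Rd.subtype Rd.ker_subtype
  let Lf : Vs →ₗ[F] (Fin (Module.finrank F Rd) → F) :=
    (Module.finBasis F Rd).equivFun.toLinearMap.comp L
  let bC := Module.finBasis F C
  let ψ : Vs →ₗ[F] (Fin (Module.finrank F C) → F) :=
    LinearMap.pi fun i => Forms.sympBilin m F (bC i : Vs)
  let φ : Vs →ₗ[F] (Fin (Module.finrank F C + Module.finrank F Rd) → F) :=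
    LinearMap.pi fun i => Fin.addCases (motive := fun _ => Vs →ₗ[F] F)
      (fun a => (LinearMap.proj a).comp ψ) (fun b => (LinearMap.proj b).comp Lf) i
  obtain ⟨p, hp0, hp, hpQ⟩ := FormMax.OrthSL.exists_zero_ker h2 φ (norm2 j)
    (by rw [Fintype.card_sum, Fintype.card_fin]; omega)
  rw [norm2_apply] at hpQ
  have hpb : ∀ i, f (bC i : Vs) p = 0 := fun i => by
    have := congrFun hp (Fin.castAdd _ i)
    simpa [φ, ψ, Forms.sympBilin_apply] using this
  have hpe : ∀ i, f (e i) p = 0 := fun i => by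
    have h0 : ((Forms.sympBilin m F).flip p).comp C.subtype = 0 := bC.ext fun k => by
      simpa [Forms.sympBilin_apply] using hpb k
    have := LinearMap.congr_fun h0 ⟨e i, Submodule.subset_span ⟨i, rfl⟩⟩
    simpa [Forms.sympBilin_apply] using this
  have hpC : p ∉ C := fun h => hp0 (by
    have h3 := LinearMap.congr_fun hL ⟨p, hRmem h hpe⟩
    simp only [LinearMap.comp_apply, Submodule.subtype_apply, LinearMap.id_apply] at h3
    have h4 : (Module.finBasis F Rd).equivFun (L p) = 0 := funext fun b => by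
      have := congrFun hp (Fin.natAdd _ b)
      simpa [φ, Lf] using this
    have h5 : L p = 0 := (LinearEquiv.map_eq_zero_iff _).mp h4
    rw [h5] at h3
    exact (congrArg Subtype.val h3).symm)
  have kp : ∀ {x}, (∀ i, f (e i) x = 0) → KP j v x ∧ KP j y x := by
    intro x hx
    refine ⟨⟨hx 0, ?_⟩, ⟨hx 2, ?_⟩⟩
    · have h1 := hx 1
      change f (j *ᵥ v) x = 0 at h1
      rwa [hjf, neg_eq_zero] at h1
    · have h1 := hx 3
      change f (j *ᵥ y) x = 0 at h1
      rwa [hjf, neg_eq_zero] at h1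
  obtain ⟨hpv, hpy⟩ := kp hpe
  -- a perpendicular vector pairing with `p`
  obtain ⟨x, hxv, hxy, hpx, hpjx⟩ : ∃ x, KP j v x ∧ KP j y x ∧ f p x ≠ 0 ∧ f p (j *ᵥ x) ≠ 0 := by
    have h0 : ∃ x, KP j v x ∧ KP j y x ∧ f p x ≠ 0 := by
      by_contra hno
      push Not at hno
      obtain ⟨a, ha⟩ := (Submodule.mem_span_range_iff_exists_fun F).mp
        (mem_span_of_iInf_ker_le_ker (L := fun i => Forms.sympBilin m F (e i))
          (K := Forms.sympBilin m F p) fun x hx => by
          rw [LinearMap.mem_ker, Forms.sympBilin_apply]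
          have hx' : ∀ i, f (e i) x = 0 := fun i => by
            have := LinearMap.mem_ker.mp ((Submodule.mem_iInf _).mp hx i)
            rwa [Forms.sympBilin_apply] at this
          exact hno x (kp hx').1 (kp hx').2)
      refine hpC ?_
      have hp' : p = ∑ i, a i • e i := by
        by_contra hne
        obtain ⟨x, hx⟩ := exists_form_ne (sub_ne_zero.mpr hne)
        refine hx ?_
        have h4 := LinearMap.congr_fun ha x
        rw [← Forms.sympBilin_apply, map_sub, LinearMap.sub_apply, map_sum, sub_eq_zero]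
        simpa using h4.symm
      rw [hp']
      exact Submodule.sum_mem _ fun i _ => C.smul_mem _ (Submodule.subset_span ⟨i, rfl⟩)
    obtain ⟨x, hxv, hxy, hpx⟩ := h0
    by_cases hpj : f p (j *ᵥ x) = 0
    · refine ⟨x + j *ᵥ x, KP_add j hxv (KP_j j d hjj hxv), KP_add j hxy (KP_j j d hjj hxy), ?_, ?_⟩
      · rw [form_add_right, hpj, add_zero]; exact hpx
      · rw [mulVec_add, form_add_right, hpj, hjj, form_smul_right, zero_add]
        exact mul_ne_zero (d_ne_zero d hd) hpx
    · exact ⟨x, hxv, hxy, hpx, hpj⟩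
  obtain ⟨t, ht⟩ : ∃ t, t = -f x (j *ᵥ x) / (2 * f p (j *ᵥ x)) := ⟨_, rfl⟩
  refine ⟨p, x + t • p, hpQ, ?_, ?_, ?_, hpv, hpy, KP_add j hxv (KP_smul j t hpv),
    KP_add j hxy (KP_smul j t hpy)⟩
  · rw [norm2_add j hjf, mulVec_smul, form_smul_right, form_smul_right, form_smul_left, hpQ,
      f_jx_sym j hjf x p, ht]
    field_simp
    ring
  · rwa [form_add_right, form_smul_right, sympForm_self, mul_zero, add_zero]
  · rwa [mulVec_add, mulVec_smul, form_add_right, form_smul_right, hpQ, mul_zero, add_zero]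

include hjj hjf hd h2 hm in
/-- An isotropic pair. -/
theorem exists_iso_pair : ∃ p q, f p (j *ᵥ p) = 0 ∧ f q (j *ᵥ q) = 0 ∧ f p q ≠ 0 ∧ f p (j *ᵥ q) ≠ 0 := by
  obtain ⟨p, q, h1, h3, h4, h5, -⟩ := exists_perp_pair j d hjj hjf hd h2 hm 0 0 (Or.inr (Or.inr (by
    have hle : Submodule.span F (Set.range ![(0 : Vs), j *ᵥ 0, 0, j *ᵥ 0]) ≤ ⊥ := by
      rw [Submodule.span_le]
      rintro _ ⟨i, rfl⟩
      fin_cases i <;> simp
    have := Submodule.finrank_mono hle
    rw [finrank_bot] at this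
    omega)))
  exact ⟨p, q, h1, h3, h4, h5⟩

include hjj hjf hd h2 in
/-- In dimension eight, an isotropic vector with prescribed pairings against two lines spanning a degenerate
plane. -/
theorem exists_presc_degenerate (hm4 : m = 4) {v y : Vs} (hv : v ≠ 0)
    (hy : ∀ a b : F, y ≠ a • v + b • (j *ᵥ v))
    (hli : LinearIndependent F ![v, j *ᵥ v, y, j *ᵥ y]) {u₀ : Vs} {A : Fin 4 → F}
    (hval : ∀ i, f (![v, j *ᵥ v, y, j *ᵥ y] i) u₀ = A i) (hA : ∃ i, A i ≠ 0)
    (hgood : ∃ i k : Fin 4, f (![v, j *ᵥ v, y, j *ᵥ y] i) (![v, j *ᵥ v, y, j *ᵥ y] k) ≠ 0)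
    {r : Vs} (hrC : r ∈ Submodule.span F (Set.range ![v, j *ᵥ v, y, j *ᵥ y]))
    (hre : ∀ i : Fin 4, f (![v, j *ᵥ v, y, j *ᵥ y] i) r = 0) (hr0 : r ≠ 0) :
    ∃ u z, f u (j *ᵥ u) = 0 ∧ (∀ i, f (![v, j *ᵥ v, y, j *ᵥ y] i) u = A i) ∧
      KP j v z ∧ KP j y z ∧ f u z ≠ 0 := by
  classical
  have hd0 := d_ne_zero d hd
  obtain ⟨e, he⟩ : ∃ e : Fin 4 → Vs, e = ![v, j *ᵥ v, y, j *ᵥ y] := ⟨_, rfl⟩
  rw [← he] at hli hval hgood hrC hre ⊢
  obtain ⟨C, hC⟩ : ∃ C, C = Submodule.span F (Set.range e) := ⟨_, rfl⟩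
  rw [← hC] at hrC
  have hlin : ∀ x, (∀ i, f (e i) x = 0) → ∀ c ∈ C, f c x = 0 := fun x hx c hc => by
    have hle : C ≤ LinearMap.ker ((Forms.sympBilin m F).flip x) := by
      rw [hC, Submodule.span_le]
      rintro _ ⟨i, rfl⟩
      simpa [Forms.sympBilin_apply] using hx i
    simpa [Forms.sympBilin_apply] using hle hc
  have hje : ∀ c ∈ C, j *ᵥ c ∈ C := fun c hc => by
    have hle : C ≤ C.comap (Matrix.mulVecLin j) := by
      rw [hC, Submodule.span_le]
      rintro _ ⟨i, rfl⟩
      have hs : ∀ k, e k ∈ Submodule.span F (Set.range e) := fun k => Submodule.subset_span ⟨k, rfl⟩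
      show j *ᵥ e i ∈ Submodule.span F (Set.range e)
      fin_cases i
      · have := hs 1; rw [he] at this ⊢; exact this
      · have := Submodule.smul_mem _ d (hs 0); rw [he] at this ⊢
        show j *ᵥ (j *ᵥ v) ∈ _
        rw [hjj]; exact this
      · have := hs 3; rw [he] at this ⊢; exact this
      · have := Submodule.smul_mem _ d (hs 2); rw [he] at this ⊢
        show j *ᵥ (j *ᵥ y) ∈ _
        rw [hjj]; exact this
    exact hle hc
  have hkp : ∀ {x : Vs}, (∀ i, f (e i) x = 0) → KP j v x ∧ KP j y x := by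
    intro x hx
    rw [he] at hx
    refine ⟨⟨hx 0, ?_⟩, ⟨hx 2, ?_⟩⟩
    · have h1 := hx 1
      change f (j *ᵥ v) x = 0 at h1
      rwa [hjf, neg_eq_zero] at h1
    · have h1 := hx 3
      change f (j *ᵥ y) x = 0 at h1
      rwa [hjf, neg_eq_zero] at h1
  have hperpj : ∀ {x : Vs}, (∀ i, f (e i) x = 0) → ∀ i, f (e i) (j *ᵥ x) = 0 := fun {x} hx i => by
    have h1 := hlin x hx _ (hje (e i) (by rw [hC]; exact Submodule.subset_span ⟨i, rfl⟩))
    rwa [hjf, neg_eq_zero] at h1
  have hrr : f r (j *ᵥ r) = 0 := hlin _ (hperpj hre) r hrC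
  have hjrr : f (j *ᵥ r) r = 0 := by rw [sympForm_comm, hrr, neg_zero]
  have hex : ∀ {x z : Vs}, (∀ i, f (e i) (x - u₀) = 0) → f x (j *ᵥ x) = 0 → (∀ i, f (e i) z = 0) → f x z ≠ 0 →
      ∃ u z, f u (j *ᵥ u) = 0 ∧ (∀ i, f (e i) u = A i) ∧ KP j v z ∧ KP j y z ∧ f u z ≠ 0 :=
    fun {x z} hx hxx hz hxz => ⟨x, z, hxx, fun i => by
      have h1 := hx i
      rw [form_sub_right, hval, sub_eq_zero] at h1
      exact h1, (hkp hz).1, (hkp hz).2, hxz⟩
  by_cases hur : f u₀ r ≠ 0 ∨ f u₀ (j *ᵥ r) ≠ 0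
  · obtain ⟨r', z, hr', hr'e, hr'', hze, hr'z, hz⟩ : ∃ r' z, f u₀ (j *ᵥ r') ≠ 0 ∧ (∀ i, f (e i) r' = 0) ∧
        f r' (j *ᵥ r') = 0 ∧ (∀ i, f (e i) z = 0) ∧ f r' z = 0 ∧ f u₀ z ≠ 0 := by
      by_cases h : f u₀ (j *ᵥ r) = 0
      · have hr1 := hur.resolve_right (fun h' => h' h)
        refine ⟨j *ᵥ r, r, ?_, hperpj hre, ?_, hre, hjrr, hr1⟩
        · rw [hjj, form_smul_right]
          exact mul_ne_zero hd0 hr1
        · rw [hjj, form_smul_right, hjrr, mul_zero]
      · exact ⟨r, j *ᵥ r, h, hre, hrr, hperpj hre, hrr, h⟩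
    obtain ⟨t, ht⟩ : ∃ t, t = -f u₀ (j *ᵥ u₀) / (2 * f u₀ (j *ᵥ r')) := ⟨_, rfl⟩
    refine hex (x := u₀ + t • r') (fun i => ?_) ?_ hze ?_
    · rw [add_sub_cancel_left, form_smul_right, hr'e, mul_zero]
    · rw [norm2_add j hjf, mulVec_smul, form_smul_right, form_smul_right, form_smul_left, hr'', ht]
      field_simp
      ring
    · rw [form_add_left, form_smul_left, hr'z, mul_zero, add_zero]
      exact hz
  push Not at hur
  -- the orthogonal of the plane
  let ψ : Vs →ₗ[F] (Fin 4 → F) := LinearMap.pi fun i => Forms.sympBilin m F (e i)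
  have hW : ∀ {x}, x ∈ LinearMap.ker ψ ↔ ∀ i, f (e i) x = 0 := fun {x} => by
    simp [ψ, funext_iff, Forms.sympBilin_apply]
  have hWd : 4 ≤ Module.finrank F (LinearMap.ker ψ) := by
    have h1 := ψ.finrank_range_add_finrank_ker
    have h3 := Submodule.finrank_le (LinearMap.range ψ)
    rw [Module.finrank_fintype_fun_eq_card] at h1 h3
    simp at h1 h3
    omega
  have hCd : Module.finrank F C = 4 := by rw [hC, finrank_span_eq_card hli, Fintype.card_fin]
  obtain ⟨n, hne, hn⟩ : ∃ n, (∀ i, f (e i) n = 0) ∧ f n (j *ᵥ n) ≠ 0 := by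
    by_contra hno
    push Not at hno
    have horth : ∀ x x', (∀ i, f (e i) x = 0) → (∀ i, f (e i) x' = 0) → f x (j *ᵥ x') = 0 := by
      intro x x' hx hx'
      have h1 := hno (x + x') fun i => by rw [form_add_right, hx, hx', add_zero]
      rw [norm2_add j hjf, hno x hx, hno x' hx', zero_add, add_zero] at h1
      exact (mul_eq_zero.mp h1).resolve_left h2
    have hWC : LinearMap.ker ψ ≤ C := by
      intro w hw
      obtain ⟨a, ha⟩ := (Submodule.mem_span_range_iff_exists_fun F).mp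
        (mem_span_of_iInf_ker_le_ker (L := fun i => Forms.sympBilin m F (e i))
          (K := Forms.sympBilin m F w) fun x hx => by
          rw [LinearMap.mem_ker, Forms.sympBilin_apply]
          have hx' : ∀ i, f (e i) x = 0 := fun i => by
            have := LinearMap.mem_ker.mp ((Submodule.mem_iInf _).mp hx i)
            rwa [Forms.sympBilin_apply] at this
          have h1 := horth w _ (hW.mp hw) (hperpj hx')
          rw [hjj, form_smul_right] at h1
          exact (mul_eq_zero.mp h1).resolve_left hd0)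
      have hw' : w = ∑ i, a i • e i := by
        by_contra hne
        obtain ⟨x, hx⟩ := exists_form_ne (sub_ne_zero.mpr hne)
        refine hx ?_
        have h4 := LinearMap.congr_fun ha x
        rw [← Forms.sympBilin_apply, map_sub, LinearMap.sub_apply, map_sum, sub_eq_zero]
        simpa using h4.symm
      rw [hw', hC]
      exact Submodule.sum_mem _ fun i _ => Submodule.smul_mem _ _ (Submodule.subset_span ⟨i, rfl⟩)
    have hCW : LinearMap.ker ψ = C := Submodule.eq_of_le_of_finrank_le hWC (by omega)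
    obtain ⟨i, k, hik⟩ := hgood
    refine hik (hW.mp ?_ i)
    rw [hCW, hC]
    exact Submodule.subset_span ⟨k, rfl⟩
  obtain ⟨N, hN⟩ : ∃ N, N = f n (j *ᵥ n) := ⟨_, rfl⟩
  have hN0 : N ≠ 0 := hN ▸ hn
  obtain ⟨u₁, hu₁⟩ : ∃ u₁, u₁ = u₀ + (-f n (j *ᵥ u₀) / N) • n + (-f n u₀ / (d * N) * d) • (j *ᵥ n) := ⟨_, rfl⟩
  have hnu : f n u₁ = 0 := by
    rw [hu₁, form_add_right, form_add_right, form_smul_right, form_smul_right, sympForm_self, ← hN]
    field_simp
    ring
  have hnju : f n (j *ᵥ u₁) = 0 := by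
    rw [hu₁, mulVec_add, mulVec_add, mulVec_smul, mulVec_smul, hjj, form_add_right, form_add_right,
      form_smul_right, form_smul_right, form_smul_right, sympForm_self, ← hN]
    field_simp
    ring
  have hval₁ : ∀ i, f (e i) (u₁ - u₀) = 0 := fun i => by
    rw [hu₁, form_sub_right, form_add_right, form_add_right, form_smul_right, form_smul_right, hne,
      hperpj hne, mul_zero, mul_zero, add_zero, add_zero, sub_self]
  have hrn : f r n = 0 := hlin n hne r hrC
  have hrjn : f r (j *ᵥ n) = 0 := hlin _ (hperpj hne) r hrC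
  have hu₁r : f u₁ r = 0 := by
    rw [hu₁, form_add_left, form_add_left, form_smul_left, form_smul_left, hur.1, sympForm_comm n r, hrn,
      sympForm_comm (j *ᵥ n) r, hrjn]
    ring
  have hu₁jr : f u₁ (j *ᵥ r) = 0 := by
    rw [hu₁, form_add_left, form_add_left, form_smul_left, form_smul_left, hur.2, f_jx_sym j hjf n r, hrjn,
      f_jj j d hjj hjf, sympForm_comm n r, hrn]
    ring
  have hliW : LinearIndependent F ![r, j *ᵥ r, n, j *ᵥ n] := by
    rw [Fintype.linearIndependent_iff]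
    intro g hg i
    have hg' : g 0 • r + g 1 • (j *ᵥ r) + (g 2 • n + g 3 • (j *ᵥ n)) = 0 := by
      rw [← hg, Fin.sum_univ_four]
      simp
      abel
    obtain ⟨a, b, c, c'⟩ := quad_indep j d hjj hd hr0 (y := n) (fun a b h => hn (by
      rw [h]
      simp only [mulVec_add, mulVec_smul, hjj, form_add_left, form_add_right, form_smul_left, form_smul_right,
        sympForm_self, hrr, hjrr]
      ring)) hg'
    fin_cases i <;> assumption
  have hWC1 : u₁ ∈ C := by
    have hspan : Submodule.span F (Set.range ![r, j *ᵥ r, n, j *ᵥ n]) = LinearMap.ker ψ := by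
      refine Submodule.eq_of_le_of_finrank_le ?_ ?_
      · rw [Submodule.span_le]
        rintro _ ⟨i, rfl⟩
        fin_cases i
        · exact hW.mpr hre
        · exact hW.mpr (hperpj hre)
        · exact hW.mpr hne
        · exact hW.mpr (hperpj hne)
      · rw [finrank_span_eq_card hliW, Fintype.card_fin]
        have h1 := ψ.finrank_range_add_finrank_ker
        have hsur : 4 ≤ Module.finrank F (LinearMap.range ψ) := by
          by_contra hlt
          have hbad : ∀ g : Fin 4 → F, ∑ i, g i • e i = 0 → ∀ i, g i = 0 :=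
            Fintype.linearIndependent_iff.mp hli
          obtain ⟨φ, hφ0, hφ⟩ := Submodule.exists_dual_map_eq_bot_of_lt_top
            (lt_top_iff_ne_top.mpr fun h : LinearMap.range ψ = ⊤ => hlt (by
              rw [h, finrank_top, Module.finrank_fintype_fun_eq_card, Fintype.card_fin])) inferInstance
          refine hφ0 (LinearMap.pi_ext' fun i => LinearMap.ext_ring ?_)
          have hz : ∑ k, φ (Pi.single k 1) • e k = 0 := by
            by_contra hne0
            obtain ⟨x, hx⟩ := exists_form_ne hne0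
            refine hx ?_
            have hm : φ (ψ x) ∈ (LinearMap.range ψ).map φ := ⟨_, ⟨x, rfl⟩, rfl⟩
            rw [hφ, Submodule.mem_bot] at hm
            rw [← hm, ← Forms.sympBilin_apply, map_sum, LinearMap.sum_apply]
            conv_rhs => rw [← Finset.univ_sum_single (ψ x), map_sum]
            refine Finset.sum_congr rfl fun k _ => ?_
            rw [map_smul, LinearMap.smul_apply, show (Pi.single k (ψ x k) : Fin 4 → F) = ψ x k • Pi.single k 1 by
              rw [← Pi.single_smul', smul_eq_mul, mul_one], map_smul]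
            simp [ψ, mul_comm]
          simpa using hbad _ hz i
        rw [Module.finrank_fintype_fun_eq_card, Fintype.card_sum, Fintype.card_fin] at h1
        omega
    obtain ⟨a, ha⟩ := (Submodule.mem_span_range_iff_exists_fun F).mp
      (mem_span_of_iInf_ker_le_ker (L := fun i => Forms.sympBilin m F (e i))
        (K := Forms.sympBilin m F u₁) fun x hx => by
        rw [LinearMap.mem_ker]
        have hx' : x ∈ Submodule.span F (Set.range ![r, j *ᵥ r, n, j *ᵥ n]) := by
          rw [hspan]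
          exact hW.mpr fun i => by
            have := LinearMap.mem_ker.mp ((Submodule.mem_iInf _).mp hx i)
            rwa [Forms.sympBilin_apply] at this
        refine (Submodule.span_le (p := LinearMap.ker (Forms.sympBilin m F u₁))).mpr ?_ hx'
        rintro _ ⟨i, rfl⟩
        fin_cases i <;> simp only [SetLike.mem_coe, LinearMap.mem_ker, Forms.sympBilin_apply]
        · exact hu₁r
        · exact hu₁jr
        · show f u₁ n = 0
          rw [sympForm_comm, hnu, neg_zero]
        · show f u₁ (j *ᵥ n) = 0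
          rw [f_jx_sym j hjf, hnju])
    have hw' : u₁ = ∑ i, a i • e i := by
      by_contra hne
      obtain ⟨x, hx⟩ := exists_form_ne (sub_ne_zero.mpr hne)
      refine hx ?_
      have h4 := LinearMap.congr_fun ha x
      rw [← Forms.sympBilin_apply, map_sub, LinearMap.sub_apply, map_sum, sub_eq_zero]
      simpa using h4.symm
    rw [hw', hC]
    exact Submodule.sum_mem _ fun i _ => Submodule.smul_mem _ _ (Submodule.subset_span ⟨i, rfl⟩)
  obtain ⟨c₁, hc₁⟩ : ∃ c₁, c₁ = f u₁ (j *ᵥ u₁) := ⟨_, rfl⟩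
  have hc₁0 : c₁ ≠ 0 := by
    intro h0
    by_cases hind : ∀ a b : F, u₁ ≠ a • r + b • (j *ᵥ r)
    · have hliC : LinearIndependent F ![r, j *ᵥ r, u₁, j *ᵥ u₁] := by
        rw [Fintype.linearIndependent_iff]
        intro g hg i
        have hg' : g 0 • r + g 1 • (j *ᵥ r) + (g 2 • u₁ + g 3 • (j *ᵥ u₁)) = 0 := by
          rw [← hg, Fin.sum_univ_four]
          simp
          abel
        obtain ⟨a, b, c, c'⟩ := quad_indep j d hjj hd hr0 hind hg'
        fin_cases i <;> assumption
      have hspan : Submodule.span F (Set.range ![r, j *ᵥ r, u₁, j *ᵥ u₁]) = C := by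
        refine Submodule.eq_of_le_of_finrank_le ?_ (by rw [finrank_span_eq_card hliC, Fintype.card_fin, hCd])
        rw [Submodule.span_le]
        rintro _ ⟨i, rfl⟩
        fin_cases i
        · exact hrC
        · exact hje r hrC
        · exact hWC1
        · exact hje u₁ hWC1
      have hperp : ∀ c ∈ C, f c u₁ = 0 := fun c hc => by
        rw [← hspan] at hc
        have hle : Submodule.span F (Set.range ![r, j *ᵥ r, u₁, j *ᵥ u₁]) ≤
            LinearMap.ker ((Forms.sympBilin m F).flip u₁) := by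
          rw [Submodule.span_le]
          rintro _ ⟨i, rfl⟩
          rw [SetLike.mem_coe, LinearMap.mem_ker]
          change Forms.sympBilin m F (![r, j *ᵥ r, u₁, j *ᵥ u₁] i) u₁ = 0
          rw [Forms.sympBilin_apply]
          fin_cases i
          · show f r u₁ = 0
            rw [sympForm_comm, hu₁r, neg_zero]
          · show f (j *ᵥ r) u₁ = 0
            rw [sympForm_comm, hu₁jr, neg_zero]
          · exact sympForm_self u₁
          · show f (j *ᵥ u₁) u₁ = 0
            rw [sympForm_comm, ← hc₁, h0, neg_zero]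
        simpa [Forms.sympBilin_apply] using hle hc
      obtain ⟨i, hi⟩ := hA
      refine hi ?_
      have h1 := hval₁ i
      rw [form_sub_right, hperp _ (by rw [hC]; exact Submodule.subset_span ⟨i, rfl⟩), hval, zero_sub,
        neg_eq_zero] at h1
      exact h1
    · push Not at hind
      obtain ⟨a, b, hab⟩ := hind
      obtain ⟨i, hi⟩ := hA
      refine hi ?_
      have h1 := hval₁ i
      rw [form_sub_right, hab, form_add_right, form_smul_right, form_smul_right, hre, hperpj hre, hval,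
        mul_zero, mul_zero, add_zero, zero_sub, neg_eq_zero] at h1
      exact h1
  -- a norm adjustment along `n`
  obtain ⟨a, b, hab⟩ : ∃ a b : F, c₁ + (a * a - d * (b * b)) * N = 0 := by
    have hN' := hN0
    let P : QuadraticForm F (Fin 3 → F) :=
      QuadraticMap.weightedSumSquares F (![1, -d, c₁ / N] : Fin 3 → F)
    obtain ⟨x, hx0, hx⟩ := FormMax.OrthSL.exists_zero_fin h2 le_rfl P
    simp [P, QuadraticMap.weightedSumSquares_apply, Fin.sum_univ_three] at hx
    have hx2 : x 2 ≠ 0 := fun h => by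
      rw [h] at hx
      refine norm_ne_zero d hd (a := x 0) (b := x 1) ?_ (by linear_combination hx)
      by_contra hno
      push Not at hno
      exact hx0 (funext fun i => by fin_cases i <;> simp [hno.1, hno.2, h])
    refine ⟨x 0 / x 2, x 1 / x 2, ?_⟩
    field_simp at hx ⊢
    linear_combination hx
  have hab0 : a ≠ 0 ∨ b ≠ 0 := by
    by_contra hno
    push Not at hno
    rw [hno.1, hno.2] at hab
    exact hc₁0 (by linear_combination hab)
  have hjn : f (j *ᵥ n) n = -N := by rw [hN, sympForm_comm]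
  obtain ⟨z, hze, hz⟩ : ∃ z, (∀ i, f (e i) z = 0) ∧ f (u₁ + (a • n + b • (j *ᵥ n))) z ≠ 0 := by
    rcases hab0 with ha | hb
    · refine ⟨j *ᵥ n, hperpj hne, ?_⟩
      rw [form_add_left, form_add_left, form_smul_left, form_smul_left, f_jx_sym j hjf u₁ n, hnju, ← hN,
        sympForm_self, mul_zero, add_zero, zero_add]
      exact mul_ne_zero ha hN0
    · refine ⟨n, hne, ?_⟩
      rw [form_add_left, form_add_left, form_smul_left, form_smul_left, sympForm_comm u₁ n, hnu, sympForm_self, hjn,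
        mul_zero, zero_add, neg_zero, zero_add]
      exact mul_ne_zero hb (neg_ne_zero.mpr hN0)
  refine hex (x := u₁ + (a • n + b • (j *ᵥ n))) (fun i => ?_) ?_ hze hz
  · rw [add_sub_right_comm, form_add_right, hval₁, form_add_right, form_smul_right, form_smul_right, hne,
      hperpj hne]
    ring
  · rw [norm2_add j hjf]
    simp only [mulVec_add, mulVec_smul, hjj, form_add_left, form_add_right, form_smul_left, form_smul_right,
      sympForm_self, ← hN, hjn, ← hc₁, f_jx_sym j hjf u₁ n, hnju,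
      show f u₁ n = 0 from by rw [sympForm_comm, hnu, neg_zero]]
    linear_combination hab

include hjj hjf hd h2 hm in
/-- An isotropic vector with prescribed pairings, with a witness outside the span. -/
theorem exists_presc {v y : Vs} (hv : v ≠ 0) (hy : ∀ a b : F, y ≠ a • v + b • (j *ᵥ v)) (A B A' B' : F)
    (hne0 : A ≠ 0 ∨ B ≠ 0 ∨ A' ≠ 0 ∨ B' ≠ 0) :
    ∃ u z, f u (j *ᵥ u) = 0 ∧ f v u = A ∧ f v (j *ᵥ u) = B ∧ f y u = A' ∧ f y (j *ᵥ u) = B' ∧
      KP j v z ∧ KP j y z ∧ f u z ≠ 0 := by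
  classical
  let e : Fin 4 → Vs := ![v, j *ᵥ v, y, j *ᵥ y]
  have hli : LinearIndependent F e := by
    rw [Fintype.linearIndependent_iff]
    intro g hg i
    have hg' : g 0 • v + g 1 • (j *ᵥ v) + (g 2 • y + g 3 • (j *ᵥ y)) = 0 := by
      rw [← hg, Fin.sum_univ_four]
      simp [e]
      abel
    obtain ⟨a, b, c, c'⟩ := quad_indep j d hjj hd hv hy hg'
    fin_cases i <;> assumption
  obtain ⟨χ, hχ⟩ : ∃ χ : Vs →ₗ[F] F, ∀ i, χ (e i) = -(![A, -B, A', -B'] i) := by
    let b := Module.Basis.span hli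
    obtain ⟨χ, hχ⟩ := LinearMap.exists_extend (b.constr F fun i => -(![A, -B, A', -B'] i))
    refine ⟨χ, fun i => ?_⟩
    have h1 := LinearMap.congr_fun hχ (b i)
    rw [Module.Basis.constr_basis] at h1
    simpa [b] using h1
  obtain ⟨u₀, hu₀⟩ := (Forms.sympBilin_goodForm (F := F) (m := m)).exists_vec χ
  have hval : ∀ i, f (e i) u₀ = ![A, -B, A', -B'] i := fun i => by
    rw [sympForm_comm, ← Forms.sympBilin_apply, hu₀, hχ, neg_neg]
  by_cases hgood : ∃ i k : Fin 4, f (e i) (e k) ≠ 0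
  swap
  · -- the two lines span a totally singular plane
    push Not at hgood
    obtain ⟨i, hi⟩ : ∃ i, f (e i) u₀ ≠ 0 := by
      rcases hne0 with h | h | h | h
      · exact ⟨0, by rw [hval]; simpa using h⟩
      · exact ⟨1, by rw [hval]; simpa using h⟩
      · exact ⟨2, by rw [hval]; simpa using h⟩
      · exact ⟨3, by rw [hval]; simpa using h⟩
    have hkp : KP j v (e i) ∧ KP j y (e i) := by
      have h1 := hgood 1 i
      have h3 := hgood 3 i
      change f (j *ᵥ v) (e i) = 0 at h1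
      change f (j *ᵥ y) (e i) = 0 at h3
      rw [hjf, neg_eq_zero] at h1 h3
      exact ⟨⟨hgood 0 i, h1⟩, hgood 2 i, h3⟩
    have hd0 := d_ne_zero d hd
    have hu₀i : f u₀ (e i) ≠ 0 := by rw [sympForm_comm]; exact neg_ne_zero.mpr hi
    obtain ⟨t, ht⟩ : ∃ t, t = -f u₀ (j *ᵥ u₀) / (2 * (d * f u₀ (e i))) := ⟨_, rfl⟩
    have hc : KP j v (t • (j *ᵥ e i)) ∧ KP j y (t • (j *ᵥ e i)) :=
      ⟨KP_smul j t (KP_j j d hjj hkp.1), KP_smul j t (KP_j j d hjj hkp.2)⟩
    have hii : f (e i) (j *ᵥ e i) = 0 := by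
      have h1 : ∀ k, f (e i) (e k) = 0 := hgood i
      fin_cases i
      · exact h1 1
      · change f (j *ᵥ v) (j *ᵥ (j *ᵥ v)) = 0
        rw [hjj, form_smul_right]
        exact mul_eq_zero_of_right _ (h1 0)
      · exact h1 3
      · change f (j *ᵥ y) (j *ᵥ (j *ᵥ y)) = 0
        rw [hjj, form_smul_right]
        exact mul_eq_zero_of_right _ (h1 2)
    refine ⟨u₀ + t • (j *ᵥ e i), e i, ?_, ?_, ?_, ?_, ?_, hkp.1, hkp.2, ?_⟩
    · rw [norm2_add j hjf, mulVec_smul, hjj, form_smul_right, form_smul_right, form_smul_left,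
        form_smul_right, form_smul_right, sympForm_comm (j *ᵥ e i) (e i), hii, ht]
      field_simp
      ring
    · rw [form_add_right, hc.1.1, add_zero]
      exact hval 0
    · have h0 := hval 1
      change f (j *ᵥ v) u₀ = -B at h0
      rw [hjf] at h0
      rw [mulVec_add, form_add_right, hc.1.2, add_zero]
      exact neg_inj.mp h0
    · rw [form_add_right, hc.2.1, add_zero]
      exact hval 2
    · have h0 := hval 3
      change f (j *ᵥ y) u₀ = -B' at h0
      rw [hjf] at h0
      rw [mulVec_add, form_add_right, hc.2.2, add_zero]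
      exact neg_inj.mp h0
    · rw [form_add_left, form_smul_left, sympForm_comm (j *ᵥ e i) (e i), hii, neg_zero, mul_zero, add_zero]
      exact hu₀i
  by_cases hdeg : m = 4 ∧ ∃ r ∈ Submodule.span F (Set.range e), (∀ i, f (e i) r = 0) ∧ r ≠ 0
  · obtain ⟨hm4, r, hrC, hre, hr0⟩ := hdeg
    obtain ⟨u, z, hu, hue, hz1, hz3, huz⟩ := exists_presc_degenerate j d hjj hjf hd h2 hm4 hv hy hli hval (by
      rcases hne0 with h | h | h | h
      exacts [⟨0, h⟩, ⟨1, neg_ne_zero.mpr h⟩, ⟨2, h⟩, ⟨3, neg_ne_zero.mpr h⟩]) hgood hrC hre hr0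
    refine ⟨u, z, hu, hue 0, ?_, hue 2, ?_, hz1, hz3, huz⟩
    · have h0 := hue 1
      change f (j *ᵥ v) u = -B at h0
      rw [hjf] at h0
      exact neg_inj.mp h0
    · have h0 := hue 3
      change f (j *ᵥ y) u = -B' at h0
      rw [hjf] at h0
      exact neg_inj.mp h0
  obtain ⟨p, q, hpp, hqq, hpq, hpjq, hpv, hpy, hqv, hqy⟩ :=
    exists_perp_pair j d hjj hjf hd h2 hm v y (by
      by_cases hm5 : 5 ≤ m
      · exact Or.inl ⟨hm5, hgood⟩
      · refine Or.inr (Or.inl fun x hx hxe => ?_)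
        by_contra hx0
        exact hdeg ⟨by omega, x, hx, hxe, hx0⟩)
  -- make the particular solution orthogonal to the line of `q`
  have hN := norm_ne_zero d hd (a := f p (j *ᵥ q)) (b := f p q) (Or.inl hpjq)
  obtain ⟨al, be, h1, h3⟩ : ∃ al be : F, al * f q p + be * f q (j *ᵥ p) = -f q u₀ ∧
      al * f q (j *ᵥ p) + be * (d * f q p) = -f q (j *ᵥ u₀) := by
    rw [sympForm_comm q p, f_jx_sym j hjf q p]
    refine ⟨(f q u₀ * (d * -f p q) * (-1) + f q (j *ᵥ u₀) * f p (j *ᵥ q)) /
        (d * (f p q * f p q) - f p (j *ᵥ q) * f p (j *ᵥ q)),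
      (f q u₀ * f p (j *ᵥ q) - f q (j *ᵥ u₀) * (-f p q)) /
        (d * (f p q * f p q) - f p (j *ᵥ q) * f p (j *ᵥ q)), ?_, ?_⟩
    all_goals
      have hN' : d * (f p q * f p q) - f p (j *ᵥ q) * f p (j *ᵥ q) ≠ 0 := fun e => hN (by linear_combination -e)
      rw [div_mul_eq_mul_div, div_mul_eq_mul_div, ← add_div, div_eq_iff hN']
      ring
  obtain ⟨u₁, hu₁⟩ : ∃ u₁, u₁ = u₀ + al • p + be • (j *ᵥ p) := ⟨_, rfl⟩
  have hq1 : f q u₁ = 0 := by
    rw [hu₁, form_add_right, form_add_right, form_smul_right, form_smul_right]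
    linear_combination h1
  have hq2 : f q (j *ᵥ u₁) = 0 := by
    rw [hu₁, mulVec_add, mulVec_add, mulVec_smul, mulVec_smul, hjj, form_add_right, form_add_right,
      form_smul_right, form_smul_right, form_smul_right]
    linear_combination h3
  obtain ⟨t, ht⟩ : ∃ t, t = -f (u₁ + p) (j *ᵥ (u₁ + p)) / (2 * f p (j *ᵥ q)) := ⟨_, rfl⟩
  refine ⟨u₁ + p + t • q, q, ?_, ?_, ?_, ?_, ?_, hqv, hqy, ?_⟩
  · have e1 : f (u₁ + p) (j *ᵥ q) = f p (j *ᵥ q) := by
      rw [form_add_left, f_jx_sym j hjf u₁ q, hq2, zero_add]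
    rw [norm2_add j hjf, mulVec_smul, form_smul_right, form_smul_right, form_smul_left, hqq, e1, ht]
    field_simp
    ring
  · rw [hu₁, form_add_right, form_add_right, form_add_right, form_add_right, form_smul_right,
      form_smul_right, form_smul_right, hpv.1, hpv.2, hqv.1, show f v u₀ = A from hval 0]
    ring
  · have h0 := hval 1
    change f (j *ᵥ v) u₀ = -B at h0
    rw [hjf] at h0
    rw [hu₁, mulVec_add, mulVec_add, mulVec_add, mulVec_add, mulVec_smul, mulVec_smul, mulVec_smul, hjj,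
      form_add_right, form_add_right, form_add_right, form_add_right, form_smul_right,
      form_smul_right, form_smul_right, form_smul_right, hpv.1, hpv.2, hqv.2, neg_inj.mp h0]
    ring
  · rw [hu₁, form_add_right, form_add_right, form_add_right, form_add_right, form_smul_right,
      form_smul_right, form_smul_right, hpy.1, hpy.2, hqy.1, show f y u₀ = A' from hval 2]
    ring
  · have h0 := hval 3
    change f (j *ᵥ y) u₀ = -B' at h0
    rw [hjf] at h0
    rw [hu₁, mulVec_add, mulVec_add, mulVec_add, mulVec_add, mulVec_smul, mulVec_smul, mulVec_smul, hjj,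
      form_add_right, form_add_right, form_add_right, form_add_right, form_smul_right,
      form_smul_right, form_smul_right, form_smul_right, hpy.1, hpy.2, hqy.2, neg_inj.mp h0]
    ring
  · rw [form_add_left, form_add_left, form_smul_left, sympForm_self, mul_zero, add_zero,
      sympForm_comm u₁ q, hq1, neg_zero, zero_add]
    exact hpq

include hjj hjf hd hm in
theorem exists_indep (v : Vs) : ∃ y, ∀ a b : F, y ≠ a • v + b • (j *ᵥ v) := by
  by_contra hno
  push Not at hno
  have hle : (⊤ : Submodule F Vs) ≤ Submodule.span F (Set.range ![v, j *ᵥ v]) := fun x _ => by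
    obtain ⟨a, b, rfl⟩ := hno x
    exact Submodule.add_mem _ (Submodule.smul_mem _ a (Submodule.subset_span ⟨0, rfl⟩))
      (Submodule.smul_mem _ b (Submodule.subset_span ⟨1, rfl⟩))
  have h1 := Submodule.finrank_mono hle
  have h3 := finrank_range_le_card (R := F) ![v, j *ᵥ v]
  rw [Set.finrank] at h3
  rw [finrank_top, Module.finrank_fintype_fun_eq_card] at h1
  simp at h1 h3
  omega

include hjj hjf hd h2 hm in
theorem exists_presc_one {v : Vs} (hv : v ≠ 0) (A B : F) :
    ∃ u, f u (j *ᵥ u) = 0 ∧ f v u = A ∧ f v (j *ᵥ u) = B := by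
  obtain ⟨y, hy⟩ := exists_indep j d hjj hjf hd hm v
  by_cases h0 : A = 0 ∧ B = 0
  · have hz : ∀ x : Vs, f x 0 = 0 := fun x => by rw [← zero_smul F (0 : Vs), form_smul_right, zero_mul]
    exact ⟨0, by rw [mulVec_zero, hz], by rw [hz, h0.1], by rw [mulVec_zero, hz, h0.2]⟩
  obtain ⟨u, -, h1, h3, h4, -⟩ := exists_presc j d hjj hjf hd h2 hm hv hy A B 0 0 (by tauto)
  exact ⟨u, h1, h3, h4⟩

/-! ### A transvection from an element moving a line to a non-line -/

include hjj hjf hd h2 in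
/-- The core computation, given the two auxiliary vectors. -/
theorem exists_root_of_data {H : Subgroup (GL (Fin m ⊕ Fin m) F)} (hH : H ≤ Cfsg.spGL m F)
    (hR : ∀ v, f v (j *ᵥ v) = 0 → ∀ c, R j d v c ∈ H) {y y' v u : Vs} (hyy' : f y y' = 0)
    (hB : ∀ c, T y c * T y' (-c / d) ∈ H) (hv : f v (j *ᵥ v) = 0) (a1 : f y v = 0)
    (a2 : f y (j *ᵥ v) = 0) (a3 : f y' v = 0) (a4 : f y' (j *ᵥ v) = 1) (hu : f u (j *ᵥ u) = 0)
    (b1 : f v u = 1) (b2 : f v (j *ᵥ u) = 0) (b3 : f y' u = 0) (b4 : f y' (j *ᵥ u) = 0)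
    (hju : j *ᵥ u ≠ d • y') :
    ∃ r, r ≠ 0 ∧ r ∈ root H := by
  classical
  have hd0 := d_ne_zero d hd
  obtain ⟨a, ha⟩ : ∃ a, a = j *ᵥ v := ⟨_, rfl⟩
  rw [← ha] at a2 a4
  have hva : f v a = 0 := by rw [ha]; exact hv
  have hvy : f v y = 0 := by rw [sympForm_comm, a1, neg_zero]
  have hay : f a y = 0 := by rw [sympForm_comm, a2, neg_zero]
  have hvy' : f v y' = 0 := by rw [sympForm_comm, a3, neg_zero]
  have hay' : f a y' = -1 := by rw [sympForm_comm, a4]
  have hA : ∀ x X, X = -x / d → T v x * T a X ∈ H := fun x X e => by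
    rw [e, ha]; exact hR v hv x
  -- the square of a Weyl element of the plane `⟨a, y'⟩`
  obtain ⟨wl, hwl⟩ : ∃ wl, wl = T a 1 * T y' 1 * T a 1 := ⟨_, rfl⟩
  obtain ⟨s, hs⟩ : ∃ s, s = wl * wl := ⟨_, rfl⟩
  have hsx : ∀ x, (s : Ms) *ᵥ x = x - (2 : F) • ((f x a) • y' - (f x y') • a) := fun x => by
    rw [hs, hwl]
    simp only [gl_mulVec, T_mulVec, form_add_left, form_smul_left, sympForm_self, hay',
      show f y' a = 1 from by rw [sympForm_comm, hay', neg_neg]]
    module
  have hs2 : s * s = 1 := gl_ext fun x => by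
    rw [gl_mulVec, hsx, hsx, Units.val_one, one_mulVec]
    simp only [form_sub_left', form_smul_left, sympForm_self, hay',
      show f y' a = 1 from by rw [sympForm_comm, hay', neg_neg]]
    module
  have hsH : s ∈ H := by
    obtain ⟨p, hp⟩ := CharP.exists F
    have hpp : p.Prime := (CharP.char_is_prime_or_zero F p).resolve_right fun h0 => by
      subst h0
      have := CharP.charP_to_charZero F
      exact not_finite F
    have hodd : Odd p := hpp.odd_of_ne_two fun h0 => by
      subst h0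
      exact h2 (by simpa using CharP.cast_eq_zero F 2)
    obtain ⟨C, hC⟩ : ∃ C, C = T v (-d + -d) * T y (-d) := ⟨_, rfl⟩
    have hW : (T v (-d) * T a 1) * (T y (-d) * T y' 1) * (T v (-d) * T a 1) ∈ H := by
      refine H.mul_mem (H.mul_mem (hA _ _ (by field_simp)) ?_) (hA _ _ (by field_simp))
      have := hB (-d)
      rwa [show -(-d) / d = (1 : F) by field_simp] at this
    have hWC : (T v (-d) * T a 1) * (T y (-d) * T y' 1) * (T v (-d) * T a 1) = wl * C := by
      rw [hwl, hC]
      refine gl_ext fun x => ?_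
      simp only [gl_mulVec, T_mulVec, form_add_left, form_smul_left, sympForm_self, hva, hvy, hvy',
        hay, hyy', show f y' y = 0 from by rw [sympForm_comm, hyy', neg_zero],
        show f a v = 0 from by rw [sympForm_comm, hva, neg_zero],
        show f y v = 0 from a1, show f y a = 0 from a2, show f y' v = 0 from a3]
      module
    have hcomm : Commute wl C := by
      rw [hwl, hC]
      have c1 : ∀ z, f a z = 0 → f y' z = 0 → ∀ e, Commute (T a 1 * T y' 1 * T a 1) (T z e) :=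
        fun z h1 h3 e => ((T_comm h1 _ _).mul_left (T_comm h3 _ _)).mul_left (T_comm h1 _ _)
      exact (c1 v (by rw [sympForm_comm, hva, neg_zero]) a3 _).mul_right
        (c1 y hay (by rw [sympForm_comm, hyy', neg_zero]) _)
    have h1 := H.pow_mem (hWC ▸ hW) (2 * p)
    rw [hcomm.mul_pow, pow_mul wl, pow_two, ← hs] at h1
    have hCp : C ^ (2 * p) = 1 := by
      rw [hC, (T_comm (by rw [hvy]) _ _).mul_pow, T_pow, T_pow, Nat.cast_mul, CharP.cast_eq_zero F p,
        mul_zero, zero_mul, zero_mul, show ∀ z : Vs, T z (0 : F) = 1 from fun z => Units.ext (trans_zero z),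
        one_mul]
      exact Units.ext (trans_zero y)
    obtain ⟨k, hk⟩ := hodd
    rw [hCp, mul_one, hk, pow_succ, pow_mul, pow_two, hs2, one_pow, one_mul] at h1
    exact h1
  obtain ⟨q, hq⟩ : ∃ q, q = j *ᵥ u := ⟨_, rfl⟩
  rw [← hq] at hu b2 b4
  have hua : f u a = 0 := by rw [ha, f_jx_sym j hjf, ← hq]; exact b2
  have huy' : f u y' = 0 := by rw [sympForm_comm, b3, neg_zero]
  have hqa : f q a = d := by
    rw [hq, ha, f_jj j d hjj hjf, sympForm_comm u v, b1]; ring
  have hqy' : f q y' = 0 := by rw [sympForm_comm, b4, neg_zero]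
  have hqv : f q v = 0 := by rw [sympForm_comm, b2, neg_zero]
  -- `q = r + p` with `p = d y'` in the plane
  obtain ⟨r, hr⟩ : ∃ r, r = q - d • y' := ⟨_, rfl⟩
  obtain ⟨P, hP⟩ : ∃ P, P = d • y' := ⟨_, rfl⟩
  have hr0 : r ≠ 0 := fun e => hju (by rw [← hq, sub_eq_zero.mp (hr.symm.trans e)])
  have hra : f r a = 0 := by
    rw [hr, form_sub_left', form_smul_left, hqa, show f y' a = 1 from by rw [sympForm_comm, hay', neg_neg],
      mul_one, sub_self]
  have hry' : f r y' = 0 := by rw [hr, form_sub_left', form_smul_left, hqy', sympForm_self, mul_zero, sub_zero]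
  have hrv : f r v = 0 := by rw [hr, form_sub_left', form_smul_left, hqv, a3, mul_zero, sub_zero]
  have hsq : (s : Ms) *ᵥ q = q - (2 : F) • P := by
    rw [hsx, hqa, hqy', zero_smul, sub_zero, hP]
  have hsu : (s : Ms) *ᵥ u = u := by
    rw [hsx, hua, huy', zero_smul, zero_smul, sub_zero, smul_zero, sub_zero]
  have hsp : s ∈ Cfsg.spGL m F := hH hsH
  have hD : ∀ E : F, T (r + P) E * T (r - P) (-E) ∈ H := by
    intro E
    have h1 := hR u (by rw [← hq]; exact hu) (-(E * d))
    have h3 := H.mul_mem (H.mul_mem hsH h1) (H.inv_mem hsH)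
    have h4 := H.mul_mem h1 (H.inv_mem h3)
    rw [R, ← hq, show -(-(E * d)) / d = E by field_simp] at h4
    rw [show s * (T u (-(E * d)) * T q E) * s⁻¹ = (s * T u (-(E * d)) * s⁻¹) * (s * T q E * s⁻¹) by group,
      conj_T hsp, conj_T hsp, hsu, hsq, _root_.mul_inv_rev, (T_comm hu _ _).eq] at h4
    rw [show r + P = q by rw [hr, hP]; abel, show r - P = q - (2 : F) • P by rw [hr, hP]; module]
    convert h4 using 1
    rw [show T q E * T u (-(E * d)) * ((T (q - (2 : F) • P) E)⁻¹ * (T u (-(E * d)))⁻¹) =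
      T q E * (T u (-(E * d)) * (T (q - (2 : F) • P) E)⁻¹) * (T u (-(E * d)))⁻¹ by group,
      ((T_comm (u := u) (z := q - (2 : F) • P) (by
        rw [form_sub_right, form_smul_right, hP, form_smul_right, hu, huy']; ring) (-(E * d)) E).inv_right).eq]
    rw [show T q E * ((T (q - (2 : F) • P) E)⁻¹ * T u (-(E * d))) * (T u (-(E * d)))⁻¹ =
      T q E * (T (q - (2 : F) • P) E)⁻¹ by group]
    congr 1
    refine eq_inv_of_mul_eq_one_left ?_
    rw [T_add, neg_add_cancel]
    exact Units.ext (trans_zero _)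
  obtain ⟨P', hP'⟩ : ∃ P', P' = P + d • a := ⟨_, rfl⟩
  have hD' : ∀ E : F, T (r + P') E * T (r - P') (-E) ∈ H := by
    intro E
    have hAH := hA (-d) 1 (by field_simp)
    have h1 := H.mul_mem (H.mul_mem hAH (hD E)) (H.inv_mem hAH)
    rw [show (T v (-d) * T a 1) * (T (r + P) E * T (r - P) (-E)) * (T v (-d) * T a 1)⁻¹ =
        ((T v (-d) * T a 1) * T (r + P) E * (T v (-d) * T a 1)⁻¹) *
        ((T v (-d) * T a 1) * T (r - P) (-E) * (T v (-d) * T a 1)⁻¹) by group,
      conj_T (hH hAH), conj_T (hH hAH)] at h1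
    convert h1 using 3 <;>
    · rw [gl_mulVec, T_mulVec, T_mulVec]
      simp only [form_add_left, form_sub_left', form_smul_left, hP, hP', hra, hrv, a3,
        show f y' a = 1 from by rw [sympForm_comm, hay', neg_neg],
        show f a v = 0 from by rw [sympForm_comm, hva, neg_zero]]
      module
  refine ⟨r, hr0, fun c => ?_⟩
  have hPP : f P' P = -(d * d) := by
    rw [hP', hP, form_add_left, form_smul_left, form_smul_left, form_smul_right, form_smul_right,
      sympForm_self, hay']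
    ring
  have hPr : f P r = 0 := by rw [hP, form_smul_left, sympForm_comm, hry']; ring
  have hP'r : f P' r = 0 := by
    rw [hP', form_add_left, hPr, form_smul_left, sympForm_comm, hra]; ring
  obtain ⟨E, hE⟩ : ∃ E, E = -c / (8 * (d * d)) := ⟨_, rfl⟩
  obtain ⟨D, hDd⟩ : ∃ D, D = T (r + P) 1 * T (r - P) (-1) := ⟨_, rfl⟩
  obtain ⟨D', hD'd⟩ : ∃ D', D' = T (r + P') E * T (r - P') (-E) := ⟨_, rfl⟩
  have hDH : D ∈ H := hDd ▸ hD 1
  have hD'H : D' ∈ H := hD'd ▸ hD' E
  have key : D * D' = T r c * (D' * D) := by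
    have h8 : (8 : F) * (d * d) ≠ 0 := by
      refine mul_ne_zero ?_ (mul_ne_zero hd0 hd0)
      rw [show (8 : F) = 2 * 2 * 2 by norm_num]
      exact mul_ne_zero (mul_ne_zero h2 h2) h2
    have hc : c = -(8 * (d * d)) * E := by rw [hE, neg_mul, mul_div_cancel₀ _ h8, neg_neg]
    rw [hDd, hD'd, hc]
    refine gl_ext fun x => ?_
    simp only [gl_mulVec, T_mulVec, form_add_left, form_sub_left', form_add_right, form_sub_right,
      form_smul_left, sympForm_self, hPr, hP'r, hPP, show f r P = 0 from by rw [sympForm_comm, hPr, neg_zero],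
      show f r P' = 0 from by rw [sympForm_comm, hP'r, neg_zero],
      show f P P' = d * d from by rw [sympForm_comm, hPP, neg_neg]]
    module
  have h1 := H.mul_mem (H.mul_mem hDH hD'H) (H.inv_mem (H.mul_mem hD'H hDH))
  rwa [key, mul_inv_cancel_right] at h1


include hjj hjf hd h2 hm in
theorem exists_root {H : Subgroup (GL (Fin m ⊕ Fin m) F)} (hH : H ≤ Cfsg.spGL m F)
    (hR : ∀ v, f v (j *ᵥ v) = 0 → ∀ c, R j d v c ∈ H) {g : GLs} (hg : g ∈ H) {w : Vs}
    (hw : f w (j *ᵥ w) = 0) (hw0 : w ≠ 0)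
    (hne : ∀ a b : F, (g : Ms) *ᵥ (j *ᵥ w) ≠ a • ((g : Ms) *ᵥ w) + b • (j *ᵥ ((g : Ms) *ᵥ w))) :
    ∃ r, r ≠ 0 ∧ r ∈ root H := by
  classical
  have hd0 := d_ne_zero d hd
  obtain ⟨y, hy⟩ : ∃ y, y = (g : Ms) *ᵥ w := ⟨_, rfl⟩
  obtain ⟨y', hy'⟩ : ∃ y', y' = (g : Ms) *ᵥ (j *ᵥ w) := ⟨_, rfl⟩
  rw [← hy, ← hy'] at hne
  have hy0 : y ≠ 0 := fun e => hw0 (by
    have h1 := congrArg (((g⁻¹ : GLs) : Ms) *ᵥ ·) (hy.symm.trans e)
    simpa [mulVec_mulVec] using h1)
  have hyy' : f y y' = 0 := by rw [hy, hy', apply_sp (hH hg)]; exact hw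
  -- conjugating the root elements of `w`
  have hB : ∀ c, T y c * T y' (-c / d) ∈ H := fun c => by
    have h1 := H.mul_mem (H.mul_mem hg (hR w hw c)) (H.inv_mem hg)
    rwa [R, show g * (T w c * T (j *ᵥ w) (-c / d)) * g⁻¹ =
      (g * T w c * g⁻¹) * (g * T (j *ᵥ w) (-c / d) * g⁻¹) by group, conj_T (hH hg), conj_T (hH hg),
      ← hy, ← hy'] at h1
  obtain ⟨v, -, hv, a1, a2, a3, a4, -⟩ := exists_presc j d hjj hjf hd h2 hm hy0 hne 0 0 0 1 (by simp)
  obtain ⟨a, ha⟩ : ∃ a, a = j *ᵥ v := ⟨_, rfl⟩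
  have hva : f v a = 0 := by rw [ha]; exact hv
  have hay' : f a y' = -1 := by rw [sympForm_comm, ha, a4]
  -- a second line
  obtain ⟨u, z, hu, b1, b2, b3, b4, hzv, hzy, huz⟩ :=
    exists_presc j d hjj hjf hd h2 hm (v := v) (y := y') (fun e => by
      rw [e, mulVec_zero, ← zero_smul F (0 : Vs), form_smul_right, zero_mul] at a4
      exact zero_ne_one a4)
      (fun al be e => by
        have h1 := congrArg (fun z => f a z) e
        simp only [form_add_right, form_smul_right, ← ha, sympForm_self, hay',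
          show f a v = 0 from by rw [sympForm_comm, hva, neg_zero], mul_zero, add_zero] at h1
        exact one_ne_zero (neg_eq_zero.mp h1))
      1 0 0 0 (by simp)
  refine exists_root_of_data j d hjj hjf hd h2 hH hR hyy' hB hv a1 a2 a3 a4 hu b1 b2 b3 b4 fun e => ?_
  have h1 : f (j *ᵥ u) (j *ᵥ z) = 0 := by rw [e, form_smul_left, hzy.2, mul_zero]
  rw [f_jj j d hjj hjf, neg_eq_zero] at h1
  exact mul_ne_zero hd0 huz h1

include hjj hjf hd h2 hm in
/-- Every vector is the sum of two isotropic vectors which are not orthogonal. -/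
theorem exists_split {x : Vs} (hx : x ≠ 0) :
    ∃ a b, f a (j *ᵥ a) = 0 ∧ f b (j *ᵥ b) = 0 ∧ f a b ≠ 0 ∧ x = a + b := by
  obtain ⟨a, ha, h1, h3⟩ := exists_presc_one j d hjj hjf hd h2 hm hx 1 (f x (j *ᵥ x) / 2)
  refine ⟨a, x - a, ha, ?_, ?_, by abel⟩
  · rw [mulVec_sub, form_sub_left', form_sub_right, form_sub_right, ha, f_jx_sym j hjf a x, h3]
    field_simp
    ring
  · rw [form_sub_right, sympForm_self, sub_zero, sympForm_comm, h1]
    exact neg_ne_zero.mpr one_ne_zero

include hjj hjf hd h2 hm in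
/-- One root vector gives all of them. -/
theorem all_root {H : Subgroup (GL (Fin m ⊕ Fin m) F)} (hH : H ≤ Cfsg.spGL m F)
    (hR : ∀ v, f v (j *ᵥ v) = 0 → ∀ c, R j d v c ∈ H) {r : Vs} (hr0 : r ≠ 0) (hr : r ∈ root H) (x : Vs) :
    x ∈ root H := by
  -- isotropic vectors in the same real position as a root vector
  have step : ∀ z v, z ∈ root H → f v (j *ᵥ v) = 0 → f z (j *ᵥ v) = 0 → f z v = 1 → v ∈ root H := by
    intro z v hz hv h1 h3
    have h4 := root_map hH (hR v hv 1) hz
    rw [R_mulVec j d hjj hjf hd hv, h1, h3, mul_one, mul_zero, zero_smul, sub_zero, one_smul] at h4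
    have h5 := root_add hH h4 (root_smul hz (-1)) (by
      rw [form_smul_right, form_add_left, sympForm_self, sympForm_comm v z, h3]
      simpa using (one_ne_zero : (1 : F) ≠ 0))
    rwa [neg_one_smul, add_comm z v, add_neg_cancel_right] at h5
  have indep : ∀ z y, z ∈ root H → z ≠ 0 → (∀ a b : F, y ≠ a • z + b • (j *ᵥ z)) → f y (j *ᵥ y) = 0 →
      y ∈ root H := by
    intro z y hz hz0 hind hy
    obtain ⟨v, -, hv, h1, h3, h4, h5, -⟩ := exists_presc j d hjj hjf hd h2 hm hz0 hind 1 0 (-1) 0 (by simp)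
    refine step v y (step z v hz hv h3 h1) hy (by rw [f_jx_sym j hjf, h5]) ?_
    rw [sympForm_comm, h4, neg_neg]
  have iso : ∀ y, f y (j *ᵥ y) = 0 → y ∈ root H := by
    intro y hy
    rcases eq_or_ne y 0 with rfl | hy0
    · simpa using root_smul hr (0 : F)
    by_cases hind : ∀ a b : F, y ≠ a • r + b • (j *ᵥ r)
    · exact indep r y hr hr0 hind hy
    push Not at hind
    obtain ⟨a, b, rfl⟩ := hind
    obtain ⟨t, ht⟩ := exists_indep j d hjj hjf hd hm r
    obtain ⟨v, -, hv, h1, h3, -⟩ := exists_presc j d hjj hjf hd h2 hm hr0 ht 1 0 0 0 (by simp)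
    have hvr : v ∈ root H := step r v hr hv h3 h1
    have hv0 : v ≠ 0 := fun e => by
      rw [e, ← zero_smul F (0 : Vs), form_smul_right, zero_mul] at h1
      exact zero_ne_one h1
    refine indep v _ hvr hv0 (fun c c' e => ?_) hy
    have e1 := congrArg (fun z => f z v) e
    have e2 := congrArg (fun z => f z (j *ᵥ v)) e
    simp only [form_add_left, form_smul_left, hjf, h1, h3, sympForm_self, hv, hjj, form_smul_right,
      neg_zero, mul_zero, mul_neg, mul_one, add_zero] at e1 e2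
    have hb : b = 0 := by
      have : b * d = 0 := by linear_combination -e2
      exact (mul_eq_zero.mp this).resolve_right (d_ne_zero d hd)
    exact hy0 (by rw [hb, e1, zero_smul, zero_smul, add_zero])
  rcases eq_or_ne x 0 with rfl | hx
  · simpa using root_smul hr (0 : F)
  obtain ⟨a, b, ha, hb, hab, rfl⟩ := exists_split j d hjj hjf hd h2 hm hx
  exact root_add hH (iso a ha) (iso b hb) hab

include hjj hjf hd h2 hm in
/-- An element mapping isotropic lines to lines is semilinear. -/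
theorem semi_of_lines {g : GLs}
    (hl : ∀ w, w ≠ 0 → f w (j *ᵥ w) = 0 → ∃ a b : F,
      (g : Ms) *ᵥ (j *ᵥ w) = a • ((g : Ms) *ᵥ w) + b • (j *ᵥ ((g : Ms) *ᵥ w))) :
    Semi j g := by
  have hg0 : ∀ {x : Vs}, x ≠ 0 → (g : Ms) *ᵥ x ≠ 0 := fun {x} hx h0 => hx (by
    have h1 := congrArg (((g⁻¹ : GLs) : Ms) *ᵥ ·) h0
    simpa [mulVec_mulVec] using h1)
  have hinj : ∀ {x y : Vs}, (g : Ms) *ᵥ x = (g : Ms) *ᵥ y → x = y := fun {x y} h0 => by
    have h1 := congrArg (((g⁻¹ : GLs) : Ms) *ᵥ ·) h0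
    simpa [mulVec_mulVec] using h1
  have hzero : ∀ {u : Vs}, u ≠ 0 → ∀ {s t : F}, s • u + t • (j *ᵥ u) = 0 → s = 0 ∧ t = 0 := by
    intro u hu s t est
    obtain ⟨y, hy⟩ := exists_indep j d hjj hjf hd hm u
    obtain ⟨h1, h3, -⟩ := quad_indep j d hjj hd hu hy (a := s) (b := t) (a' := 0) (b' := 0)
      (by rw [zero_smul, zero_smul, add_zero, add_zero]; exact est)
    exact ⟨h1, h3⟩
  choose! al be hab using hl
  -- orthogonal independent isotropic vectors carry the same multiplier
  have horth : ∀ u w, u ≠ 0 → f u (j *ᵥ u) = 0 → f w (j *ᵥ w) = 0 → f u (j *ᵥ w) = 0 →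
      (∀ a b : F, w ≠ a • u + b • (j *ᵥ u)) → al u = al w ∧ be u = be w := by
    intro u w hu0 hu hw huw hind
    have hw0 : w ≠ 0 := fun e => hind 0 0 (by rw [e, zero_smul, zero_smul, add_zero])
    have hs0 : u + w ≠ 0 := fun e => hind (-1) 0 (by
      rw [eq_neg_of_add_eq_zero_right e, zero_smul, add_zero, neg_one_smul])
    have hs : f (u + w) (j *ᵥ (u + w)) = 0 := by rw [norm2_add j hjf, hu, hw, huw]; ring
    have hind' : ∀ a b : F, (g : Ms) *ᵥ w ≠ a • ((g : Ms) *ᵥ u) + b • (j *ᵥ ((g : Ms) *ᵥ u)) := by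
      intro a b e
      have hN : be u ≠ 0 := by
        intro h0
        have h1 := hab u hu0 hu
        rw [h0, zero_smul, add_zero, ← mulVec_smul] at h1
        have h3 : (-al u) • u + (1 : F) • (j *ᵥ u) = 0 := by rw [hinj h1]; module
        exact one_ne_zero (hzero hu0 h3).2
      refine hind (a - b / be u * al u) (b / be u) (hinj ?_)
      rw [mulVec_add, mulVec_smul, mulVec_smul, hab u hu0 hu, e, smul_add, smul_smul, smul_smul,
        div_mul_cancel₀ _ hN]
      module
    have h1 := hab _ hs0 hs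
    rw [mulVec_add, mulVec_add, mulVec_add, mulVec_add, hab u hu0 hu, hab w hw0 hw] at h1
    obtain ⟨e1, e2, e3, e4⟩ := quad_indep j d hjj hd (hg0 hu0) hind'
      (a := al u - al (u + w)) (b := be u - be (u + w)) (a' := al w - al (u + w)) (b' := be w - be (u + w))
      (by rw [← sub_eq_zero] at h1; rw [← h1]; module)
    exact ⟨(sub_eq_zero.mp e1).trans (sub_eq_zero.mp e3).symm, (sub_eq_zero.mp e2).trans (sub_eq_zero.mp e4).symm⟩
  have hconst : ∀ u w, u ≠ 0 → f u (j *ᵥ u) = 0 → w ≠ 0 → f w (j *ᵥ w) = 0 →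
      al u = al w ∧ be u = be w := by
    intro u w hu0 hu hw0 hw
    by_cases hdir : f u (j *ᵥ w) = 0 ∧ ∀ a b : F, w ≠ a • u + b • (j *ᵥ u)
    · exact horth u w hu0 hu hw hdir.1 hdir.2
    have hgood : (∀ x ∈ Submodule.span F (Set.range ![u, j *ᵥ u, w, j *ᵥ w]),
          (∀ i : Fin 4, f (![u, j *ᵥ u, w, j *ᵥ w] i) x = 0) → x = 0) ∨
        Module.finrank F (Submodule.span F (Set.range ![u, j *ᵥ u, w, j *ᵥ w])) ≤ 2 := by
      by_cases h0 : f u (j *ᵥ w) = 0
      · right
        obtain ⟨a, b, hw'⟩ : ∃ a b : F, w = a • u + b • (j *ᵥ u) := by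
          by_contra hno
          push Not at hno
          exact hdir ⟨h0, hno⟩
        have hle : Submodule.span F (Set.range ![u, j *ᵥ u, w, j *ᵥ w]) ≤
            Submodule.span F (Set.range ![u, j *ᵥ u]) := by
          have h1 : u ∈ Submodule.span F (Set.range ![u, j *ᵥ u]) := Submodule.subset_span ⟨0, rfl⟩
          have h3 : j *ᵥ u ∈ Submodule.span F (Set.range ![u, j *ᵥ u]) := Submodule.subset_span ⟨1, rfl⟩
          rw [Submodule.span_le]
          rintro _ ⟨i, rfl⟩
          fin_cases i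
          · exact h1
          · exact h3
          · change w ∈ _
            rw [hw']
            exact Submodule.add_mem _ (Submodule.smul_mem _ _ h1) (Submodule.smul_mem _ _ h3)
          · change j *ᵥ w ∈ _
            rw [hw', mulVec_add, mulVec_smul, mulVec_smul, hjj, smul_smul]
            exact Submodule.add_mem _ (Submodule.smul_mem _ _ h3) (Submodule.smul_mem _ _ h1)
        refine (Submodule.finrank_mono hle).trans ?_
        have := finrank_range_le_card (R := F) ![u, j *ᵥ u]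
        simp only [Set.finrank, Fintype.card_fin] at this
        omega
      · refine Or.inl fun x hx hxe => ?_
        have hx' := (Submodule.mem_span_range_iff_exists_fun F).mp hx
        obtain ⟨g, rfl⟩ := hx'
        have e0 := hxe 0
        have e1 := hxe 1
        have e2 := hxe 2
        have e3 := hxe 3
        simp [Fin.sum_univ_four, form_add_right, form_smul_right, sympForm_self, hu, hw, hjf, hjj,
          mulVec_add, mulVec_smul, f_jx_sym j hjf w u] at e0 e1 e2 e3
        obtain ⟨H, hH⟩ : ∃ H, H = f u (j *ᵥ w) := ⟨_, rfl⟩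
        rw [← hH] at e0 e1 e2 e3 h0
        have hne := norm_ne_zero d hd (a := H) (b := f u w) (Or.inl h0)
        have g2 : g 2 = 0 := (mul_eq_zero.mp (show g 2 * (H * H - d * (f u w * f u w)) = 0 by
          linear_combination (-H) * e1 + (-(d * f u w)) * e0)).resolve_right hne
        have g3 : g 3 = 0 := (mul_eq_zero.mp (show g 3 * (H * H - d * (f u w * f u w)) = 0 by
          linear_combination H * e0 + f u w * e1)).resolve_right hne
        rw [sympForm_comm w u] at e2 e3
        have g0 : g 0 = 0 := (mul_eq_zero.mp (show g 0 * (H * H - d * (f u w * f u w)) = 0 by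
          linear_combination (-H) * e3 + (d * f u w) * e2)).resolve_right hne
        have g1 : g 1 = 0 := (mul_eq_zero.mp (show g 1 * (H * H - d * (f u w * f u w)) = 0 by
          linear_combination H * e2 + (-(f u w)) * e3)).resolve_right hne
        simp [Fin.sum_univ_four, g0, g1, g2, g3]
    obtain ⟨p, q, hp, -, hpq, -, hup, hwp, huq, hwq⟩ := exists_perp_pair j d hjj hjf hd h2 hm u w (Or.inr hgood)
    have key : ∀ z, KP j z q → ∀ a b : F, p ≠ a • z + b • (j *ᵥ z) := fun z hzq a b e => hpq (by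
      rw [e, form_add_left, form_smul_left, form_smul_left, hjf, hzq.1, hzq.2]; ring)
    obtain ⟨h1, h3⟩ := horth u p hu0 hu hp hup.2 (key u huq)
    obtain ⟨h4, h5⟩ := horth w p hw0 hw hp hwp.2 (key w hwq)
    exact ⟨h1.trans h4.symm, h3.trans h5.symm⟩
  obtain ⟨e, e', he, -, hee, -⟩ := exists_iso_pair j d hjj hjf hd h2 hm
  have he0 : e ≠ 0 := fun h0 => hee (by rw [h0, ← zero_smul F (0 : Vs), form_smul_left, zero_mul])
  have hall : ∀ x, (g : Ms) *ᵥ (j *ᵥ x) = al e • ((g : Ms) *ᵥ x) + be e • (j *ᵥ ((g : Ms) *ᵥ x)) := by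
    have iso : ∀ u, f u (j *ᵥ u) = 0 →
        (g : Ms) *ᵥ (j *ᵥ u) = al e • ((g : Ms) *ᵥ u) + be e • (j *ᵥ ((g : Ms) *ᵥ u)) := by
      intro u hu
      rcases eq_or_ne u 0 with rfl | hu0
      · simp
      · rw [← (hconst u e hu0 hu he0 he).1, ← (hconst u e hu0 hu he0 he).2]; exact hab u hu0 hu
    intro x
    rcases eq_or_ne x 0 with rfl | hx
    · simp
    obtain ⟨a, b, ha, hb, -, rfl⟩ := exists_split j d hjj hjf hd h2 hm hx
    rw [mulVec_add, mulVec_add, iso a ha, iso b hb, mulVec_add, mulVec_add]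
    module
  have h1 := hall (j *ᵥ e)
  rw [hjj, mulVec_smul, hall e, mulVec_add, mulVec_smul, mulVec_smul, hjj] at h1
  obtain ⟨c1, c2⟩ := hzero (hg0 he0) (s := al e * al e + be e * be e * d - d) (t := 2 * (al e * be e))
    (by rw [← sub_eq_zero] at h1; rw [← neg_eq_zero, ← h1]; module)
  have ha : al e = 0 := by
    rcases mul_eq_zero.mp ((mul_eq_zero.mp c2).resolve_left h2) with h0 | h0
    · exact h0
    · exact absurd (show al e * al e = d by rw [h0] at c1; linear_combination c1) (hd _)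
  refine ⟨be e, mul_self_eq_one_iff.mp (mul_right_cancel₀ (d_ne_zero d hd) ?_), fun x => ?_⟩
  · rw [ha] at c1; linear_combination c1
  · rw [hall x, ha, zero_smul, zero_add]

include hjj hjf hd h2 hm in
/-- The normaliser of the extension field is maximal in the symplectic group. -/
theorem isMaximalIn_semilinear {N : Subgroup (GL (Fin m ⊕ Fin m) F)} (hN : ∀ g, g ∈ N ↔ Semi j g) :
    Cfsg.Geo.IsMaximalIn (Cfsg.spGL m F) (N ⊓ Cfsg.spGL m F) := by
  refine ⟨lt_of_le_of_ne inf_le_right fun heq => ?_, fun H hNH hHS => ?_⟩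
  · obtain ⟨v, q₀, hv, -, hvq, -⟩ := exists_iso_pair j d hjj hjf hd h2 hm
    have hv0 : v ≠ 0 := fun e => hvq (by rw [e, ← zero_smul F (0 : Vs), form_smul_left, zero_mul])
    obtain ⟨x, hx, h1, h3⟩ := exists_presc_one j d hjj hjf hd h2 hm hv0 0 1
    obtain ⟨ε, hε, hT⟩ := (hN _).mp (heq.ge (T_mem v 1)).1
    have hxv : f x v = 0 := by rw [sympForm_comm, h1, neg_zero]
    have hjxv : f (j *ᵥ x) v = -1 := by rw [sympForm_comm, h3]
    have h4 := hT x
    rw [T_mulVec, T_mulVec, hxv, mul_zero, zero_smul, add_zero, hjxv, one_mul] at h4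
    have h5 : v = (1 - ε) • (j *ᵥ x) := by
      rw [← sub_eq_zero] at h4
      rw [← sub_eq_zero, ← neg_eq_zero, ← h4]
      module
    rw [h5, form_smul_left, sympForm_self, mul_zero] at h3
    exact zero_ne_one h3
  by_cases hle : H ≤ N
  · exact Or.inl (le_antisymm (le_inf hle hHS) hNH)
  right
  obtain ⟨g, hgH, hg⟩ := SetLike.not_le_iff_exists.mp hle
  have hR : ∀ v, f v (j *ᵥ v) = 0 → ∀ c, R j d v c ∈ H := fun v hv c =>
    hNH ⟨(hN _).mpr (R_semi j d hjj hjf hd hv c), R_mem j d v c⟩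
  obtain ⟨r, hr0, hr⟩ : ∃ r, r ≠ 0 ∧ r ∈ root H := by
    by_cases hl : ∀ w, w ≠ 0 → f w (j *ᵥ w) = 0 → ∃ a b : F,
        (g : Ms) *ᵥ (j *ᵥ w) = a • ((g : Ms) *ᵥ w) + b • (j *ᵥ ((g : Ms) *ᵥ w))
    · exact absurd ((hN g).mpr (semi_of_lines j d hjj hjf hd h2 hm hl)) hg
    push Not at hl
    obtain ⟨w, hw0, hw, hne⟩ := hl
    exact exists_root j d hjj hjf hd h2 hm hHS hR hgH hw hw0 hne
  exact eq_spGL hHS fun x => all_root j d hjj hjf hd h2 hm hHS hR hr0 hr x

end Cfsg.Agent.Lib.ExtFieldMax.SympQuad
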